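import Mathlib
import Groth.Prelude.Def_FlatCA
import Groth.Agent.Lib.Helper9.AssTensor

/-!
# Base change of fibre rings and fibre modules (helper14)

For a pushout square `A₁ → A₂`, `B₁ → B₂` and primes `t₂` of `A₂` over `t₁` of `A₁`, the fibre ring
`κ(t₂) ⊗ B₂` is the base change of `κ(t₁) ⊗ B₁` along the field extension `κ(t₁) → κ(t₂)`, and
likewise for fibre modules.  We deduce the behaviour of associated primes of fibre modules.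
-/

set_option autoImplicit false
set_option linter.style.haveILetI false
universe u

open TensorProduct

namespace Groth.Agent.Lib.Helper14.Impurity

attribute [local instance] Algebra.TensorProduct.rightAlgebra

section FibMap

variable {A₁ A₂ B₁ B₂ : Type u} [CommRing A₁] [CommRing A₂] [CommRing B₁] [CommRing B₂]
  [Algebra A₁ A₂] [Algebra A₁ B₁] [Algebra A₂ B₂] [Algebra B₁ B₂] [Algebra A₁ B₂]
  [IsScalarTower A₁ B₁ B₂] [IsScalarTower A₁ A₂ B₂]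
  (t₁ : Ideal A₁) [t₁.IsPrime] (t₂ : Ideal A₂) [t₂.IsPrime] [t₂.LiesOver t₁]

/-- `κ(t₁) → κ(t₂)`. -/
noncomputable def resₐ : t₁.ResidueField →ₐ[A₁] t₂.ResidueField :=
  Ideal.ResidueField.mapₐ t₁ t₂ (Algebra.ofId A₁ A₂) (t₂.over_def t₁)

variable (B₁ B₂) in
/-- The map of fibre rings `κ(t₁) ⊗ B₁ → κ(t₂) ⊗ B₂`. -/
noncomputable def fibMap : t₁.Fiber B₁ →ₐ[A₁] t₂.Fiber B₂ :=
  (Algebra.TensorProduct.mapOfCompatibleSMul A₂ A₁ A₁ t₂.ResidueField B₂).comp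
    (Algebra.TensorProduct.map (resₐ t₁ t₂) (IsScalarTower.toAlgHom A₁ B₁ B₂))

@[simp]
lemma fibMap_tmul (k : t₁.ResidueField) (b : B₁) :
    fibMap B₁ B₂ t₁ t₂ (k ⊗ₜ b) = (resₐ t₁ t₂ k) ⊗ₜ[A₂] (algebraMap B₁ B₂ b) := by
  simp [fibMap]

theorem fibMap_faithfullyFlat [Algebra.IsPushout A₁ B₁ A₂ B₂] :
    letI : Algebra (t₁.Fiber B₁) (t₂.Fiber B₂) := (fibMap B₁ B₂ t₁ t₂).toRingHom.toAlgebra
    Module.Flat (t₁.Fiber B₁) (t₂.Fiber B₂) ∧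
      ∀ I : Ideal (t₁.Fiber B₁), (I.map (fibMap B₁ B₂ t₁ t₂).toRingHom).comap
        (fibMap B₁ B₂ t₁ t₂).toRingHom = I := by
  letI i1 : Algebra t₁.ResidueField t₂.ResidueField := (resₐ t₁ t₂).toRingHom.toAlgebra
  letI i2 : Algebra (t₁.Fiber B₁) (t₂.Fiber B₂) := (fibMap B₁ B₂ t₁ t₂).toRingHom.toAlgebra
  letI i4 : Algebra B₁ (t₂.Fiber B₂) :=
    ((algebraMap B₂ (t₂.Fiber B₂)).comp (algebraMap B₁ B₂)).toAlgebra
  have s1 : IsScalarTower A₁ t₁.ResidueField t₂.ResidueField :=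
    .of_algebraMap_eq (fun x => ((resₐ t₁ t₂).commutes x).symm)
  have s2 : IsScalarTower t₁.ResidueField t₂.ResidueField (t₂.Fiber B₂) := inferInstance
  have s3 : IsScalarTower t₁.ResidueField (t₁.Fiber B₁) (t₂.Fiber B₂) :=
    .of_algebraMap_eq (fun x => by
      change _ = fibMap B₁ B₂ t₁ t₂ (x ⊗ₜ 1)
      rw [fibMap_tmul, map_one]
      rfl)
  have s4 : IsScalarTower B₁ B₂ (t₂.Fiber B₂) := .of_algebraMap_eq (fun x => rfl)
  have s5 : IsScalarTower A₁ B₁ (t₂.Fiber B₂) := .of_algebraMap_eq (fun x => by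
    change _ = algebraMap B₂ (t₂.Fiber B₂) (algebraMap B₁ B₂ (algebraMap A₁ B₁ x))
    rw [← IsScalarTower.algebraMap_apply A₁ B₁ B₂, IsScalarTower.algebraMap_apply A₁ A₂ B₂,
      ← IsScalarTower.algebraMap_apply A₂ B₂ (t₂.Fiber B₂),
      ← IsScalarTower.algebraMap_apply A₁ A₂ (t₂.Fiber B₂)])
  have s6 : IsScalarTower B₁ (t₁.Fiber B₁) (t₂.Fiber B₂) := .of_algebraMap_eq (fun x => by
    change _ = fibMap B₁ B₂ t₁ t₂ (algebraMap B₁ (t₁.Fiber B₁) x)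
    rw [Algebra.TensorProduct.right_algebraMap_apply, fibMap_tmul, map_one]
    rfl)
  have s7 : IsScalarTower A₁ (t₁.Fiber B₁) (t₂.Fiber B₂) := .of_algebraMap_eq (fun x => by
    change _ = fibMap B₁ B₂ t₁ t₂ (algebraMap A₁ (t₁.Fiber B₁) x)
    rw [AlgHom.commutes])
  have s8 : IsScalarTower A₁ B₂ (t₂.Fiber B₂) := .of_algebraMap_eq (fun x => by
    rw [IsScalarTower.algebraMap_apply A₁ A₂ (t₂.Fiber B₂),
      IsScalarTower.algebraMap_apply A₂ B₂ (t₂.Fiber B₂),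
      ← IsScalarTower.algebraMap_apply A₁ A₂ B₂])
  have h3 : Algebra.IsPushout A₁ A₂ B₁ B₂ := Algebra.IsPushout.symm inferInstance
  have h2 : Algebra.IsPushout A₂ t₂.ResidueField B₂ (t₂.Fiber B₂) := inferInstance
  have h4 : Algebra.IsPushout A₁ t₂.ResidueField B₁ (t₂.Fiber B₂) :=
    (Algebra.IsPushout.comp_iff A₁ A₂ B₁ B₂).mpr h2
  have h1 : Algebra.IsPushout A₁ t₁.ResidueField B₁ (t₁.Fiber B₁) := inferInstance
  have h5 : Algebra.IsPushout t₁.ResidueField t₂.ResidueField (t₁.Fiber B₁) (t₂.Fiber B₂) :=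
    (Algebra.IsPushout.comp_iff A₁ t₁.ResidueField B₁ (t₁.Fiber B₁)).mp h4
  have h6 : Algebra.IsPushout t₁.ResidueField (t₁.Fiber B₁) t₂.ResidueField (t₂.Fiber B₂) := h5.symm
  have hflat : Module.Flat (t₁.Fiber B₁) (t₂.Fiber B₂) :=
    Module.Flat.isBaseChange t₁.ResidueField (t₁.Fiber B₁) t₂.ResidueField (t₂.Fiber B₂) h6.out
  refine ⟨hflat, fun I => ?_⟩
  rcases subsingleton_or_nontrivial (t₁.Fiber B₁) with hs | hn
  · exact Subsingleton.elim _ _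
  · have e : (t₁.Fiber B₁) ⊗[t₁.ResidueField] t₂.ResidueField ≃ₗ[t₁.Fiber B₁] t₂.Fiber B₂ :=
      h6.out.equiv
    haveI : Module.FaithfullyFlat (t₁.Fiber B₁) ((t₁.Fiber B₁) ⊗[t₁.ResidueField] t₂.ResidueField) :=
      inferInstance
    haveI : Module.FaithfullyFlat (t₁.Fiber B₁) (t₂.Fiber B₂) :=
      Module.FaithfullyFlat.of_linearEquiv _ _ e.symm
    exact Ideal.comap_map_eq_self_of_faithfullyFlat I


end FibMap

section FT
variable (A₁ A₂ B₁ B₂ : Type u) [CommRing A₁] [CommRing A₂] [CommRing B₁] [CommRing B₂]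
  [Algebra A₁ A₂] [Algebra A₁ B₁] [Algebra A₂ B₂] [Algebra B₁ B₂] [Algebra A₁ B₂]
  [IsScalarTower A₁ B₁ B₂] [IsScalarTower A₁ A₂ B₂]

theorem finiteType_of_isPushout [Algebra.IsPushout A₁ B₁ A₂ B₂] [Algebra.FiniteType A₁ B₁] :
    Algebra.FiniteType A₂ B₂ := by
  haveI : Algebra.IsPushout A₁ A₂ B₁ B₂ := Algebra.IsPushout.symm inferInstance
  exact Algebra.FiniteType.equiv inferInstance (Algebra.IsPushout.equiv A₁ A₂ B₁ B₂)
end FT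

section GM
variable {B₁ B₂ F₁ F₂ : Type u} [CommRing B₁] [CommRing B₂] [CommRing F₁] [CommRing F₂]
  [Algebra B₁ B₂] [Algebra B₁ F₁] [Algebra B₂ F₂] [Algebra F₁ F₂] [Algebra B₁ F₂]
  [IsScalarTower B₁ B₂ F₂] [IsScalarTower B₁ F₁ F₂]
  {N₁ N₂ : Type u} [AddCommGroup N₁] [Module B₁ N₁] [AddCommGroup N₂] [Module B₂ N₂] [Module B₁ N₂]
  [IsScalarTower B₁ B₂ N₂]

theorem nonempty_fibMod_equiv (f : N₁ →ₗ[B₁] N₂) (hf : IsBaseChange B₂ f) :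
    Nonempty (F₂ ⊗[F₁] (F₁ ⊗[B₁] N₁) ≃ₗ[F₂] F₂ ⊗[B₂] N₂) := by
  have h1 : IsBaseChange F₁ (TensorProduct.mk B₁ F₁ N₁ 1) := TensorProduct.isBaseChange B₁ N₁ F₁
  have h2 : IsBaseChange F₂ (TensorProduct.mk F₁ F₂ (F₁ ⊗[B₁] N₁) 1) :=
    TensorProduct.isBaseChange F₁ (F₁ ⊗[B₁] N₁) F₂
  have h3 : IsBaseChange F₂ (TensorProduct.mk B₂ F₂ N₂ 1) := TensorProduct.isBaseChange B₂ N₂ F₂
  have h12 := IsBaseChange.comp h1 h2
  have h13 := IsBaseChange.comp hf h3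
  exact ⟨h12.equiv.symm ≪≫ₗ h13.equiv⟩
end GM

variable {A₁ A₂ B₁ B₂ : Type u} [CommRing A₁] [CommRing A₂] [CommRing B₁] [CommRing B₂]
  [Algebra A₁ A₂] [Algebra A₁ B₁] [Algebra A₂ B₂] [Algebra B₁ B₂] [Algebra A₁ B₂]
  [IsScalarTower A₁ B₁ B₂] [IsScalarTower A₁ A₂ B₂]
  (t₁ : Ideal A₁) [t₁.IsPrime] (t₂ : Ideal A₂) [t₂.IsPrime] [t₂.LiesOver t₁]
  {N₁ N₂ : Type u} [AddCommGroup N₁] [Module B₁ N₁] [Module A₁ N₁] [IsScalarTower A₁ B₁ N₁]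
  [AddCommGroup N₂] [Module B₂ N₂] [Module A₂ N₂] [IsScalarTower A₂ B₂ N₂]
  [Module B₁ N₂] [IsScalarTower B₁ B₂ N₂]

theorem fibMap_ass [Algebra.IsPushout A₁ B₁ A₂ B₂] [Algebra.FiniteType A₁ B₁] [Module.Finite B₁ N₁]
    (f : N₁ →ₗ[B₁] N₂) (hf : IsBaseChange B₂ f) :
    (∀ Q ∈ associatedPrimes (t₂.Fiber B₂) (FlatCA.fiberMod t₂ B₂ N₂),
      Q.comap (fibMap B₁ B₂ t₁ t₂).toRingHom ∈
        associatedPrimes (t₁.Fiber B₁) (FlatCA.fiberMod t₁ B₁ N₁)) ∧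
    (∀ P ∈ associatedPrimes (t₁.Fiber B₁) (FlatCA.fiberMod t₁ B₁ N₁),
      ∃ Q ∈ associatedPrimes (t₂.Fiber B₂) (FlatCA.fiberMod t₂ B₂ N₂),
        Q.comap (fibMap B₁ B₂ t₁ t₂).toRingHom = P) := by
  obtain ⟨hflat, hcm⟩ := fibMap_faithfullyFlat (B₁ := B₁) (B₂ := B₂) t₁ t₂
  letI i2 : Algebra (t₁.Fiber B₁) (t₂.Fiber B₂) := (fibMap B₁ B₂ t₁ t₂).toRingHom.toAlgebra
  letI i4 : Algebra B₁ (t₂.Fiber B₂) :=
    ((algebraMap B₂ (t₂.Fiber B₂)).comp (algebraMap B₁ B₂)).toAlgebra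
  have s4 : IsScalarTower B₁ B₂ (t₂.Fiber B₂) := .of_algebraMap_eq (fun x => rfl)
  have s6 : IsScalarTower B₁ (t₁.Fiber B₁) (t₂.Fiber B₂) := .of_algebraMap_eq (fun x => by
    change _ = fibMap B₁ B₂ t₁ t₂ (algebraMap B₁ (t₁.Fiber B₁) x)
    rw [Algebra.TensorProduct.right_algebraMap_apply, fibMap_tmul, map_one]
    rfl)
  haveI : Module.Flat (t₁.Fiber B₁) (t₂.Fiber B₂) := hflat
  obtain ⟨e⟩ := nonempty_fibMod_equiv (F₁ := t₁.Fiber B₁) (F₂ := t₂.Fiber B₂) f hf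
  haveI : Algebra.FiniteType t₁.ResidueField (t₁.Fiber B₁) := inferInstance
  haveI : IsNoetherianRing (t₁.Fiber B₁) :=
    Algebra.FiniteType.isNoetherianRing t₁.ResidueField (t₁.Fiber B₁)
  haveI : Module.Finite (t₁.Fiber B₁) ((t₁.Fiber B₁) ⊗[B₁] N₁) := inferInstance
  have hass : associatedPrimes (t₂.Fiber B₂) ((t₂.Fiber B₂) ⊗[t₁.Fiber B₁] ((t₁.Fiber B₁) ⊗[B₁] N₁)) =
      associatedPrimes (t₂.Fiber B₂) ((t₂.Fiber B₂) ⊗[B₂] N₂) :=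
    LinearEquiv.AssociatedPrimes.eq e
  haveI : Algebra.FiniteType A₂ B₂ := finiteType_of_isPushout A₁ A₂ B₁ B₂
  haveI : IsNoetherianRing (t₂.Fiber B₂) :=
    Algebra.FiniteType.isNoetherianRing t₂.ResidueField (t₂.Fiber B₂)
  constructor
  · intro Q hQ
    have hQ' : Q ∈ associatedPrimes (t₂.Fiber B₂)
        ((t₂.Fiber B₂) ⊗[t₁.Fiber B₁] ((t₁.Fiber B₁) ⊗[B₁] N₁)) := by
      rw [hass]; exact hQ
    exact Groth.Agent.Lib.Helper9.AssTensor.comap_mem_associatedPrimes (R := t₁.Fiber B₁)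
      (S := t₂.Fiber B₂) (t₂.Fiber B₂) ((t₁.Fiber B₁) ⊗[B₁] N₁) Q hQ'
  · intro P hP
    haveI hPp : P.IsPrime := hP.isPrime
    have hne : (P.map (algebraMap (t₁.Fiber B₁) (t₂.Fiber B₂))) • (⊤ : Submodule (t₂.Fiber B₂) (t₂.Fiber B₂)) ≠ ⊤ := by
      intro htop
      have h1 : P.map (algebraMap (t₁.Fiber B₁) (t₂.Fiber B₂)) = ⊤ := by
        rw [smul_eq_mul, Ideal.mul_top] at htop
        exact htop
      have h2 := hcm P
      rw [show (fibMap B₁ B₂ t₁ t₂).toRingHom = algebraMap (t₁.Fiber B₁) (t₂.Fiber B₂) from rfl,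
        h1, Ideal.comap_top] at h2
      exact hPp.ne_top h2.symm
    haveI : Nontrivial ((t₂.Fiber B₂) ⧸ (P.map (algebraMap (t₁.Fiber B₁) (t₂.Fiber B₂))) •
        (⊤ : Submodule (t₂.Fiber B₂) (t₂.Fiber B₂))) :=
      Submodule.Quotient.nontrivial_iff.mpr hne
    obtain ⟨Q, hQ⟩ := associatedPrimes.nonempty (t₂.Fiber B₂)
      ((t₂.Fiber B₂) ⧸ (P.map (algebraMap (t₁.Fiber B₁) (t₂.Fiber B₂))) •
        (⊤ : Submodule (t₂.Fiber B₂) (t₂.Fiber B₂)))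
    refine ⟨Q, ?_, ?_⟩
    · have : Q ∈ associatedPrimes (t₂.Fiber B₂)
          ((t₂.Fiber B₂) ⊗[t₁.Fiber B₁] ((t₁.Fiber B₁) ⊗[B₁] N₁)) := by
        rw [Groth.Agent.Lib.Helper9.AssTensor.associatedPrimes_tensor_eq]
        simp only [Set.mem_iUnion]
        exact ⟨P, hP, hQ⟩
      rw [hass] at this
      exact this
    · exact Groth.Agent.Lib.Helper9.AssTensor.comap_eq_of_mem_quot
        Groth.Agent.Lib.Helper9.AssTensor.assLike_associatedPrimes (t₂.Fiber B₂) P Q hQ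


end Groth.Agent.Lib.Helper14.Impurity
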