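import Mathlib
import Groth.Prelude.Def_FlatCA
import Groth.Agent.Lib.Helper14.Impurity.FibBC

/-!
# Ideals of fibre rings (helper14)

`FlatCA.fiberIdeal p P` for primes `P` lying over `p`, and compatibility with `fibMap`.
-/

set_option autoImplicit false
set_option linter.style.haveILetI false
universe u

open TensorProduct

namespace Groth.Agent.Lib.Helper14.Impurity

attribute [local instance] Algebra.TensorProduct.rightAlgebra

section one

variable {R S : Type u} [CommRing R] [CommRing S] [Algebra R S] (p : Ideal R) [p.IsPrime]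

/-- `S → κ(p) ⊗ S`. -/
noncomputable abbrev iota : S →+* p.Fiber S :=
  (Algebra.TensorProduct.includeRight (R := R) (A := p.ResidueField) (B := S)).toRingHom

lemma isUnit_algebraMap_fiber {r : R} (hr : r ∉ p) :
    IsUnit (algebraMap R (p.Fiber S) r) := by
  rw [IsScalarTower.algebraMap_apply R p.ResidueField (p.Fiber S)]
  exact (isUnit_iff_ne_zero.2
    (fun h0 => hr (Ideal.algebraMap_residueField_eq_zero.1 h0))).map _

/-- Every ideal of the fibre ring is extended from its contraction (as in helper24's lemma). -/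
lemma fiberIdeal_comap (P : Ideal (p.Fiber S)) :
    FlatCA.fiberIdeal p (P.comap (iota (S := S) p)) = P := by
  show (P.comap (iota (S := S) p)).map (iota (S := S) p) = P
  refine le_antisymm Ideal.map_comap_le ?_
  intro f hf
  obtain ⟨r, hr, a, ha⟩ := Ideal.Fiber.exists_smul_eq_one_tmul p f
  have hu := isUnit_algebraMap_fiber (S := S) p hr
  have h1 : algebraMap R (p.Fiber S) r * f = iota (S := S) p a := by
    rw [← Algebra.smul_def, ha]
    rfl
  have h2 : a ∈ P.comap (iota (S := S) p) := by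
    rw [Ideal.mem_comap, ← h1]
    exact Ideal.mul_mem_left _ _ hf
  have h3 : algebraMap R (p.Fiber S) r * f ∈
      (P.comap (iota (S := S) p)).map (iota (S := S) p) := by
    rw [h1]
    exact Ideal.mem_map_of_mem _ h2
  exact (Ideal.unit_mul_mem_iff_mem _ hu).1 h3

/-- For a prime `P` of `S` over `p`, the extension to the fibre ring is prime and contracts
to `P`. -/
theorem fiberIdeal_isPrime_and_comap (P : Ideal S) [P.IsPrime] [P.LiesOver p] :
    (FlatCA.fiberIdeal p P).IsPrime ∧ (FlatCA.fiberIdeal p P).comap (iota (S := S) p) = P := by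
  let e := PrimeSpectrum.primesOverOrderIsoFiber R S p
  let Q : PrimeSpectrum (p.Fiber S) := e ⟨P, inferInstance, inferInstance⟩
  have h1 : (e.symm Q).1 = Q.asIdeal.comap (iota (S := S) p) := rfl
  have h2 : (e.symm Q).1 = P := by
    show (e.symm (e ⟨P, inferInstance, inferInstance⟩)).1 = P
    rw [OrderIso.symm_apply_apply]
  have h3 : Q.asIdeal.comap (iota (S := S) p) = P := h1.symm.trans h2
  have h4 : FlatCA.fiberIdeal p P = Q.asIdeal := by
    rw [← h3]
    exact fiberIdeal_comap p Q.asIdeal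
  rw [h4]
  exact ⟨Q.isPrime, h3⟩

/-- The contraction of a prime of the fibre ring is a prime lying over `p`. -/
theorem comap_iota_liesOver (Q : Ideal (p.Fiber S)) [Q.IsPrime] :
    (Q.comap (iota (S := S) p)).LiesOver p := by
  have h1 : p = Q.under R := Ideal.LiesOver.over
  have h2 : ∀ x, x ∈ p ↔ algebraMap R (p.Fiber S) x ∈ Q := fun x =>
    (SetLike.ext_iff.mp h1 x).trans Ideal.mem_comap
  refine ⟨?_⟩
  ext x
  have h3 : iota (S := S) p (algebraMap R S x) = algebraMap R (p.Fiber S) x :=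
    (Algebra.TensorProduct.includeRight (R := R) (A := p.ResidueField) (B := S)).commutes x
  rw [h2, ← h3]
  rfl

end one

section two

variable {A₁ A₂ B₁ B₂ : Type u} [CommRing A₁] [CommRing A₂] [CommRing B₁] [CommRing B₂]
  [Algebra A₁ A₂] [Algebra A₁ B₁] [Algebra A₂ B₂] [Algebra B₁ B₂] [Algebra A₁ B₂]
  [IsScalarTower A₁ B₁ B₂] [IsScalarTower A₁ A₂ B₂]
  (t₁ : Ideal A₁) [t₁.IsPrime] (t₂ : Ideal A₂) [t₂.IsPrime] [t₂.LiesOver t₁]

lemma fibMap_comp_iota :
    (fibMap B₁ B₂ t₁ t₂).toRingHom.comp (iota (S := B₁) t₁) =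
      (iota (S := B₂) t₂).comp (algebraMap B₁ B₂) := by
  ext b
  show fibMap B₁ B₂ t₁ t₂ (1 ⊗ₜ b) = 1 ⊗ₜ (algebraMap B₁ B₂ b)
  rw [fibMap_tmul, map_one]

/-- Contraction of an ideal of the fibre ring `κ(t₂) ⊗ B₂` along `fibMap` is the extension of the
contraction to `B₁`. -/
theorem comap_fibMap_eq (Q : Ideal (t₂.Fiber B₂)) :
    Q.comap (fibMap B₁ B₂ t₁ t₂).toRingHom =
      FlatCA.fiberIdeal t₁ ((Q.comap (iota (S := B₂) t₂)).comap (algebraMap B₁ B₂)) := by
  rw [← fiberIdeal_comap t₁ (Q.comap (fibMap B₁ B₂ t₁ t₂).toRingHom)]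
  congr 1
  rw [Ideal.comap_comap, Ideal.comap_comap, fibMap_comp_iota]

end two

end Groth.Agent.Lib.Helper14.Impurity
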