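import Mathlib
import Groth.Prelude.Def_FlatCA
import Groth.Agent.Lib.Helper14.Impurity.FibIdeal

/-!
# The intrinsic part of an impurity and its base change (helper14)
-/

set_option autoImplicit false
set_option linter.style.haveILetI false
universe u

open TensorProduct

namespace Groth.Agent.Lib.Helper14.Impurity

attribute [local instance] Algebra.TensorProduct.rightAlgebra

/-- The part of `FlatCA.IsImpurity` that only involves `A' → B'`, the `B'`-module `N'`, the primes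
`t' ≤ t` and `P`. -/
def Imp (A' B' N' : Type u) [CommRing A'] [CommRing B'] [Algebra A' B'] [AddCommGroup N']
    [Module B' N'] [Module A' N'] [IsScalarTower A' B' N'] (t' t : Ideal A') [t'.IsPrime]
    [t.IsPrime] (P : Ideal B') [P.IsPrime] : Prop :=
  t' ≤ t ∧ P.LiesOver t' ∧
    FlatCA.fiberIdeal t' P ∈ associatedPrimes (t'.Fiber B') (FlatCA.fiberMod t' B' N') ∧
    ∀ (P' : Ideal B') [P'.IsPrime], P ≤ P' → ¬ P'.LiesOver t

theorem isImpurity_iff {A B : Type u} [CommRing A] [CommRing B] [Algebra A B] (N : Type u)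
    [AddCommGroup N] [Module B N] (p : Ideal A) [p.IsPrime]
    (A' B' N' : Type u) [CommRing A'] [CommRing B'] [Algebra A A'] [Algebra B B']
    [Algebra A' B'] [Algebra A B'] [IsScalarTower A B B'] [IsScalarTower A A' B']
    [AddCommGroup N'] [Module B' N'] [Module B N'] [IsScalarTower B B' N'] [Module A' N']
    [IsScalarTower A' B' N'] (f : N →ₗ[B] N') (t' t : Ideal A') [t'.IsPrime] [t.IsPrime]
    (P : Ideal B') [P.IsPrime] :
    FlatCA.IsImpurity A B N p A' B' N' f t' t P ↔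
      Algebra.IsPushout A B A' B' ∧ IsBaseChange B' f ∧ t.LiesOver p ∧ Imp A' B' N' t' t P := by
  unfold FlatCA.IsImpurity Imp
  tauto

section BC

variable {A₁ A₂ B₁ B₂ : Type u} [CommRing A₁] [CommRing A₂] [CommRing B₁] [CommRing B₂]
  [Algebra A₁ A₂] [Algebra A₁ B₁] [Algebra A₂ B₂] [Algebra B₁ B₂] [Algebra A₁ B₂]
  [IsScalarTower A₁ B₁ B₂] [IsScalarTower A₁ A₂ B₂]
  {N₁ N₂ : Type u} [AddCommGroup N₁] [Module B₁ N₁] [Module A₁ N₁] [IsScalarTower A₁ B₁ N₁]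
  [AddCommGroup N₂] [Module B₂ N₂] [Module A₂ N₂] [IsScalarTower A₂ B₂ N₂]
  [Module B₁ N₂] [IsScalarTower B₁ B₂ N₂]

omit [IsScalarTower A₁ B₁ B₂] in
/-- Contraction to `B₁` of a prime of `B₂` lying over `s` lies over the contraction of `s`. -/
lemma liesOver_comap (t : Ideal A₁) (s : Ideal A₂) [s.LiesOver t] (P₂ : Ideal B₂)
    [P₂.LiesOver s] [IsScalarTower A₁ B₁ B₂] :
    (P₂.comap (algebraMap B₁ B₂)).LiesOver t := by
  refine ⟨?_⟩
  ext x
  rw [Ideal.LiesOver.over (p := t) (P := s), Ideal.LiesOver.over (p := s) (P := P₂)]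
  simp only [Ideal.under, Ideal.mem_comap]
  rw [← IsScalarTower.algebraMap_apply A₁ B₁ B₂, IsScalarTower.algebraMap_apply A₁ A₂ B₂]

/-- Base change of the intrinsic part of an impurity along `A₁ → A₂` to primes `s' ≤ s` over
`t' ≤ t`. -/
theorem Imp.baseChange [Algebra.IsPushout A₁ B₁ A₂ B₂] [Algebra.FiniteType A₁ B₁]
    [Module.Finite B₁ N₁] (f : N₁ →ₗ[B₁] N₂) (hf : IsBaseChange B₂ f)
    (t' t : Ideal A₁) [t'.IsPrime] [t.IsPrime] (P : Ideal B₁) [P.IsPrime]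
    (h : Imp A₁ B₁ N₁ t' t P)
    (s' s : Ideal A₂) [s'.IsPrime] [s.IsPrime] [s'.LiesOver t'] [s.LiesOver t] (hle : s' ≤ s) :
    ∃ (P₂ : Ideal B₂) (_ : P₂.IsPrime), P₂.comap (algebraMap B₁ B₂) = P ∧
      Imp A₂ B₂ N₂ s' s P₂ := by
  obtain ⟨_, hPt', hass, hcl⟩ := h
  obtain ⟨Q, hQ, hQP⟩ := (fibMap_ass t' s' f hf).2 _ hass
  haveI hQp : Q.IsPrime := hQ.isPrime
  haveI hP₂ : (Q.comap (iota (S := B₂) s')).IsPrime := Ideal.comap_isPrime _ _
  haveI hlo : (Q.comap (iota (S := B₂) s')).LiesOver s' := comap_iota_liesOver s' Q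
  have hfib : FlatCA.fiberIdeal s' (Q.comap (iota (S := B₂) s')) = Q := fiberIdeal_comap s' Q
  haveI : ((Q.comap (iota (S := B₂) s')).comap (algebraMap B₁ B₂)).IsPrime :=
    Ideal.comap_isPrime _ _
  haveI : ((Q.comap (iota (S := B₂) s')).comap (algebraMap B₁ B₂)).LiesOver t' :=
    liesOver_comap t' s' _
  have hcomap : (Q.comap (iota (S := B₂) s')).comap (algebraMap B₁ B₂) = P := by
    have h1 := comap_fibMap_eq (B₁ := B₁) (B₂ := B₂) t' s' Q
    rw [hQP] at h1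
    have h2 := (fiberIdeal_isPrime_and_comap t' P).2
    have h3 := (fiberIdeal_isPrime_and_comap t'
      ((Q.comap (iota (S := B₂) s')).comap (algebraMap B₁ B₂))).2
    rw [← h3, ← h1, h2]
  refine ⟨Q.comap (iota (S := B₂) s'), hP₂, hcomap, hle, hlo, ?_, ?_⟩
  · rw [hfib]; exact hQ
  · intro P' hP' hPP' hP's
    haveI : (P'.comap (algebraMap B₁ B₂)).IsPrime := Ideal.comap_isPrime _ _
    refine hcl (P'.comap (algebraMap B₁ B₂)) ?_ (liesOver_comap t s P')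
    rw [← hcomap]
    exact Ideal.comap_mono hPP'

end BC

/-- Base change of an impurity of `N` above `p` along `A₁ → A₂` to primes `s' ≤ s` over
`t' ≤ t`, with `B₂ = A₂ ⊗ B₁` and `N₂ = B₂ ⊗ N₁`. -/
theorem exists_impurity_baseChange
    {A B : Type u} [CommRing A] [CommRing B] [Algebra A B] [Algebra.FiniteType A B]
    (N : Type u) [AddCommGroup N] [Module B N] [Module.Finite B N] (p : Ideal A) [p.IsPrime]
    (A₁ B₁ N₁ : Type u) [CommRing A₁] [CommRing B₁] [Algebra A A₁] [Algebra B B₁]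
    [Algebra A₁ B₁] [Algebra A B₁] [IsScalarTower A B B₁] [IsScalarTower A A₁ B₁]
    [AddCommGroup N₁] [Module B₁ N₁] [Module B N₁] [IsScalarTower B B₁ N₁] [Module A₁ N₁]
    [IsScalarTower A₁ B₁ N₁] (f₁ : N →ₗ[B] N₁) (t' t : Ideal A₁) [t'.IsPrime] [t.IsPrime]
    (P : Ideal B₁) [P.IsPrime]
    (himp : FlatCA.IsImpurity A B N p A₁ B₁ N₁ f₁ t' t P)
    (A₂ : Type u) [CommRing A₂] [Algebra A A₂] [Algebra A₁ A₂] [IsScalarTower A A₁ A₂]
    (s' s : Ideal A₂) [s'.IsPrime] [s.IsPrime] [s'.LiesOver t'] [s.LiesOver t] (hle : s' ≤ s) :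
    ∃ (B₂ N₂ : Type u) (_ : CommRing B₂) (_ : Algebra B B₂) (_ : Algebra A₂ B₂) (_ : Algebra A B₂)
      (_ : IsScalarTower A B B₂) (_ : IsScalarTower A A₂ B₂) (_ : AddCommGroup N₂)
      (_ : Module B₂ N₂) (_ : Module B N₂) (_ : IsScalarTower B B₂ N₂) (_ : Module A₂ N₂)
      (_ : IsScalarTower A₂ B₂ N₂) (g : N →ₗ[B] N₂) (P₂ : Ideal B₂) (_ : P₂.IsPrime),
      FlatCA.IsImpurity A B N p A₂ B₂ N₂ g s' s P₂ := by
  obtain ⟨hpush, hbc, hlt, himp'⟩ := (isImpurity_iff N p A₁ B₁ N₁ f₁ t' t P).mp himp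
  haveI : Algebra.FiniteType A₁ B₁ := finiteType_of_isPushout A A₁ B B₁
  haveI : Module.Finite B₁ N₁ := Module.Finite.equiv hbc.equiv
  letI iB : Algebra B (A₂ ⊗[A₁] B₁) :=
    ((algebraMap B₁ (A₂ ⊗[A₁] B₁)).comp (algebraMap B B₁)).toAlgebra
  have sBB : IsScalarTower B B₁ (A₂ ⊗[A₁] B₁) := .of_algebraMap_eq (fun x => rfl)
  have sAA₁B₂ : IsScalarTower A A₁ (A₂ ⊗[A₁] B₁) := .of_algebraMap_eq (fun x => by
    rw [IsScalarTower.algebraMap_apply A A₂ (A₂ ⊗[A₁] B₁),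
      IsScalarTower.algebraMap_apply A A₁ A₂,
      ← IsScalarTower.algebraMap_apply A₁ A₂ (A₂ ⊗[A₁] B₁)])
  have sAB₁B₂ : IsScalarTower A B₁ (A₂ ⊗[A₁] B₁) := .of_algebraMap_eq (fun x => by
    rw [IsScalarTower.algebraMap_apply A A₁ (A₂ ⊗[A₁] B₁),
      IsScalarTower.algebraMap_apply A₁ B₁ (A₂ ⊗[A₁] B₁),
      ← IsScalarTower.algebraMap_apply A A₁ B₁])
  have sABB₂ : IsScalarTower A B (A₂ ⊗[A₁] B₁) := .of_algebraMap_eq (fun x => by
    rw [IsScalarTower.algebraMap_apply A B₁ (A₂ ⊗[A₁] B₁),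
      IsScalarTower.algebraMap_apply A B B₁,
      ← IsScalarTower.algebraMap_apply B B₁ (A₂ ⊗[A₁] B₁)])
  have hbc₂ : IsBaseChange (A₂ ⊗[A₁] B₁)
      (((TensorProduct.mk B₁ (A₂ ⊗[A₁] B₁) N₁ 1).restrictScalars B).comp f₁) :=
    IsBaseChange.comp hbc (TensorProduct.isBaseChange B₁ N₁ (A₂ ⊗[A₁] B₁))
  have hpush₂ : Algebra.IsPushout A B A₂ (A₂ ⊗[A₁] B₁) := by
    have h1 : Algebra.IsPushout A A₁ B B₁ := Algebra.IsPushout.symm hpush
    have h2 : Algebra.IsPushout A₁ A₂ B₁ (A₂ ⊗[A₁] B₁) := inferInstance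
    exact ((Algebra.IsPushout.comp_iff A A₁ B B₁).mpr h2).symm
  have hls : s.LiesOver p := Ideal.LiesOver.trans s t p
  obtain ⟨P₂, hP₂, -, hImp₂⟩ := Imp.baseChange (A₂ := A₂) (B₂ := A₂ ⊗[A₁] B₁)
    (N₂ := (A₂ ⊗[A₁] B₁) ⊗[B₁] N₁) (TensorProduct.mk B₁ (A₂ ⊗[A₁] B₁) N₁ 1)
    (TensorProduct.isBaseChange B₁ N₁ (A₂ ⊗[A₁] B₁)) t' t P himp' s' s hle
  exact ⟨A₂ ⊗[A₁] B₁, (A₂ ⊗[A₁] B₁) ⊗[B₁] N₁, inferInstance, iB, inferInstance, inferInstance,
    sABB₂, inferInstance, inferInstance, inferInstance, inferInstance, inferInstance, inferInstance, inferInstance,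
    ((TensorProduct.mk B₁ (A₂ ⊗[A₁] B₁) N₁ 1).restrictScalars B).comp f₁, P₂, hP₂,
    (isImpurity_iff N p A₂ _ _ _ s' s P₂).mpr ⟨hpush₂, hbc₂, hls, hImp₂⟩⟩

/-- An impurity of `N` above `p` whose base ring `A₂` is an `A'`-algebra is an impurity of the
base change `N'` above `p'`. -/
theorem isImpurity_rebase
    {A B : Type u} [CommRing A] [CommRing B] [Algebra A B]
    (N : Type u) [AddCommGroup N] [Module B N] (p : Ideal A) [p.IsPrime]
    (A' B' N' : Type u) [CommRing A'] [CommRing B'] [Algebra A A'] [Algebra B B'] [Algebra A' B']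
    [Algebra A B'] [IsScalarTower A B B'] [IsScalarTower A A' B'] [Algebra.IsPushout A B A' B']
    [AddCommGroup N'] [Module B' N'] [Module B N'] [IsScalarTower B B' N'] (f : N →ₗ[B] N')
    (hf : IsBaseChange B' f) (p' : Ideal A') [p'.IsPrime]
    (A₂ B₂ N₂ : Type u) [CommRing A₂] [CommRing B₂] [Algebra A A₂] [Algebra B B₂] [Algebra A₂ B₂]
    [Algebra A B₂] [IsScalarTower A B B₂] [IsScalarTower A A₂ B₂] [AddCommGroup N₂] [Module B₂ N₂]
    [Module B N₂] [IsScalarTower B B₂ N₂] [Module A₂ N₂] [IsScalarTower A₂ B₂ N₂] (g : N →ₗ[B] N₂)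
    (s' s : Ideal A₂) [s'.IsPrime] [s.IsPrime] (P₂ : Ideal B₂) [P₂.IsPrime]
    (himp : FlatCA.IsImpurity A B N p A₂ B₂ N₂ g s' s P₂)
    [Algebra A' A₂] [IsScalarTower A A' A₂] (hs : s.LiesOver p') :
    ∃ (_ : Algebra B' B₂) (_ : Algebra A' B₂) (_ : IsScalarTower A' B' B₂)
      (_ : IsScalarTower A' A₂ B₂) (_ : Module B' N₂) (_ : IsScalarTower B' B₂ N₂)
      (g' : N' →ₗ[B'] N₂), FlatCA.IsImpurity A' B' N' p' A₂ B₂ N₂ g' s' s P₂ := by
  obtain ⟨hpush₂, hbc₂, -, hImp⟩ := (isImpurity_iff N p A₂ B₂ N₂ g s' s P₂).mp himp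
  letI iA'B₂ : Algebra A' B₂ := ((algebraMap A₂ B₂).comp (algebraMap A' A₂)).toAlgebra
  have sA'A₂B₂ : IsScalarTower A' A₂ B₂ := .of_algebraMap_eq (fun x => rfl)
  have sAA'B₂ : IsScalarTower A A' B₂ := .of_algebraMap_eq (fun x => by
    rw [IsScalarTower.algebraMap_apply A A₂ B₂, IsScalarTower.algebraMap_apply A A' A₂,
      ← IsScalarTower.algebraMap_apply A' A₂ B₂])
  let φ : B' →ₐ[A] B₂ := Algebra.pushoutDesc B' (IsScalarTower.toAlgHom A B B₂)
    (IsScalarTower.toAlgHom A A' B₂) (fun _ _ => mul_comm _ _)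
  letI iB'B₂ : Algebra B' B₂ := φ.toRingHom.toAlgebra
  have sBB'B₂ : IsScalarTower B B' B₂ := .of_algebraMap_eq (fun x => by
    change _ = φ (algebraMap B B' x)
    rw [Algebra.pushoutDesc_left]; rfl)
  have sA'B'B₂ : IsScalarTower A' B' B₂ := .of_algebraMap_eq (fun x => by
    change _ = φ (algebraMap A' B' x)
    rw [Algebra.pushoutDesc_right]; rfl)
  have sAB'B₂ : IsScalarTower A B' B₂ := .of_algebraMap_eq (fun x => (φ.commutes x).symm)
  letI mB'N₂ : Module B' N₂ := Module.compHom N₂ (algebraMap B' B₂)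
  have sB'B₂N₂ : IsScalarTower B' B₂ N₂ := ⟨fun b b₂ n => by
    change (algebraMap B' B₂ b * b₂) • n = algebraMap B' B₂ b • (b₂ • n)
    rw [mul_smul]⟩
  have sBB'N₂ : IsScalarTower B B' N₂ := ⟨fun b b' n => by
    rw [Algebra.smul_def, mul_smul]
    change algebraMap B' B₂ (algebraMap B B' b) • (b' • n) = _
    rw [← IsScalarTower.algebraMap_apply B B' B₂, algebraMap_smul B₂ b]⟩
  let g' : N' →ₗ[B'] N₂ := hf.lift g
  have hg' : (g'.restrictScalars B).comp f = g := hf.lift_comp g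
  have hbc' : IsBaseChange B₂ g' := by
    apply IsBaseChange.of_comp hf
    rw [hg']
    exact hbc₂
  have hpush' : Algebra.IsPushout A' B' A₂ B₂ := by
    have h1 : Algebra.IsPushout A A' B B' := Algebra.IsPushout.symm inferInstance
    exact ((Algebra.IsPushout.comp_iff A A' B B').mp hpush₂.symm).symm
  exact ⟨iB'B₂, iA'B₂, sA'B'B₂, sA'A₂B₂, mB'N₂, sB'B₂N₂, g',
    (isImpurity_iff N' p' A₂ B₂ N₂ g' s' s P₂).mpr ⟨hpush', hbc', hs, hImp⟩⟩


end Groth.Agent.Lib.Helper14.Impurity
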