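import Mathlib
import Groth.Prelude.Def_FlatCA
import Groth.Agent.Lib.Helper14.Impurity.Core
import Groth.Agent.Lib.Helper12.UnramBC

/-!
# Purity and finiteness of the scheme-theoretic support (helper14)
-/

set_option autoImplicit false
set_option linter.style.haveILetI false
universe u

open TensorProduct IsLocalRing

namespace Groth.Agent.Lib.Helper14.Impurity

attribute [local instance] Algebra.TensorProduct.rightAlgebra


section ann

variable {B B' : Type u} [CommRing B] [CommRing B'] [Algebra B B']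
  {N N' : Type u} [AddCommGroup N] [Module B N] [AddCommGroup N'] [Module B' N'] [Module B N']
  [IsScalarTower B B' N']

/-- The annihilator of a module maps into the annihilator of any base change. -/
lemma map_annihilator_le_of_isBaseChange (f : N →ₗ[B] N') (hf : IsBaseChange B' f) :
    (Module.annihilator B N).map (algebraMap B B') ≤ Module.annihilator B' N' := by
  rw [Ideal.map_le_iff_le_comap]
  intro b hb
  rw [Ideal.mem_comap, Module.mem_annihilator]
  intro x
  induction x using hf.inductionOn with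
  | zero => simp
  | tmul n =>
    rw [algebraMap_smul, ← map_smul, Module.mem_annihilator.mp hb n, map_zero]
  | smul c y hy => rw [smul_comm, hy, smul_zero]
  | add x y hx hy => rw [smul_add, hx, hy, add_zero]

end ann

section fib

variable {R S : Type u} [CommRing R] [CommRing S] [Algebra R S] (p : Ideal R) [p.IsPrime]
  (N : Type u) [AddCommGroup N] [Module S N]

/-- The annihilator of a module maps into the annihilator of the fibre module. -/
lemma iota_mem_annihilator_fiberMod {s : S} (hs : s ∈ Module.annihilator S N) :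
    iota (S := S) p s ∈ Module.annihilator (p.Fiber S) (FlatCA.fiberMod p S N) := by
  rw [Module.mem_annihilator]
  show ∀ x : (p.Fiber S) ⊗[S] N, iota (S := S) p s • x = 0
  intro x
  induction x using TensorProduct.induction_on with
  | zero => simp
  | tmul k n =>
    rw [TensorProduct.smul_tmul', smul_eq_mul]
    have : iota (S := S) p s * k = s • k := by
      rw [Algebra.smul_def]; rfl
    rw [this, TensorProduct.smul_tmul, Module.mem_annihilator.mp hs n, TensorProduct.tmul_zero]
  | add x y hx hy => rw [smul_add, hx, hy, add_zero]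

/-- A prime over `p` whose fibre ideal is associated to the fibre module contains the annihilator. -/
lemma annihilator_le_of_fiberIdeal_mem_ass (P : Ideal S) [P.IsPrime] [P.LiesOver p]
    (h : FlatCA.fiberIdeal p P ∈ associatedPrimes (p.Fiber S) (FlatCA.fiberMod p S N)) :
    Module.annihilator S N ≤ P := by
  intro s hs
  have h1 := iota_mem_annihilator_fiberMod p N hs
  have h2 : Module.annihilator (p.Fiber S) (FlatCA.fiberMod p S N) ≤ FlatCA.fiberIdeal p P := by
    have := IsAssociatedPrime.annihilator_le h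
    rwa [Submodule.annihilator_top] at this
  have h3 := h2 h1
  rw [← (fiberIdeal_isPrime_and_comap p P).2]
  exact h3

end fib

/-- If the scheme-theoretic support `B ⧸ Ann N` is integral over `A`, then `N` is universally pure. -/
theorem isUnivPure_of_isIntegral_quotient_annihilator {A B : Type u} [CommRing A] [CommRing B]
    [Algebra A B] (N : Type u) [AddCommGroup N] [Module B N]
    (h : Algebra.IsIntegral A (B ⧸ Module.annihilator B N)) : FlatCA.IsUnivPure A B N := by
  intro p _ A' B' N' _ _ _ _ _ _ _ _ _ _ _ _ _ _ f t' t _ _ P _ himp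
  obtain ⟨hpush, hbc, hle, hlo, hPt', hass, hcl⟩ := himp
  have h1 : (Module.annihilator B N).map (algebraMap B B') ≤ P :=
    (map_annihilator_le_of_isBaseChange f hbc).trans
      (annihilator_le_of_fiberIdeal_mem_ass t' N' P hass)
  -- the `A`-algebra map `B ⧸ Ann N → B' ⧸ P`
  let ψ : (B ⧸ Module.annihilator B N) →ₐ[A] (B' ⧸ P) :=
    Ideal.Quotient.liftₐ (Module.annihilator B N)
      ((Ideal.Quotient.mkₐ A P).comp (IsScalarTower.toAlgHom A B B')) (by
        intro b hb
        change Ideal.Quotient.mk P (algebraMap B B' b) = 0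
        rw [Ideal.Quotient.eq_zero_iff_mem]
        exact h1 (Ideal.mem_map_of_mem _ hb))
  have hψ : ∀ b : B, ψ (Ideal.Quotient.mk _ b) = Ideal.Quotient.mk P (algebraMap B B' b) :=
    fun b => rfl
  haveI : Algebra.IsIntegral A' (B' ⧸ P) := by
    refine ⟨fun y => ?_⟩
    obtain ⟨y, rfl⟩ := Ideal.Quotient.mk_surjective y
    haveI : Algebra.IsPushout A A' B B' := hpush.symm
    have hb : IsBaseChange A' (IsScalarTower.toAlgHom A B B').toLinearMap :=
      Algebra.IsPushout.out
    induction y using hb.inductionOn with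
    | zero => rw [map_zero]; exact isIntegral_zero
    | tmul b =>
      have h2 : IsIntegral A (ψ (Ideal.Quotient.mk _ b)) :=
        (Algebra.IsIntegral.isIntegral (R := A) (Ideal.Quotient.mk _ b)).map ψ
      rw [hψ] at h2
      exact h2.tower_top
    | smul a y hy =>
      have : Ideal.Quotient.mk P (a • y) = a • Ideal.Quotient.mk P y := rfl
      rw [this]
      exact hy.smul a
    | add x y hx hy => rw [map_add]; exact hx.add hy
  have h3 : (⊥ : Ideal (B' ⧸ P)).comap (algebraMap A' (B' ⧸ P)) ≤ t := by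
    intro a ha
    rw [Ideal.mem_comap, Ideal.mem_bot] at ha
    have h4 : algebraMap A' B' a ∈ P := Ideal.Quotient.eq_zero_iff_mem.mp ha
    have h5 : a ∈ t' := by
      rw [hPt'.over]; exact h4
    exact hle h5
  obtain ⟨Q, -, hQp, hQt⟩ := Ideal.exists_ideal_over_prime_of_isIntegral t
    (⊥ : Ideal (B' ⧸ P)) h3
  haveI : (Q.comap (Ideal.Quotient.mk P)).IsPrime := Ideal.comap_isPrime _ _
  refine hcl (Q.comap (Ideal.Quotient.mk P)) ?_ ⟨?_⟩
  · intro x hx
    rw [Ideal.mem_comap, Ideal.Quotient.eq_zero_iff_mem.mpr hx]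
    exact Q.zero_mem
  · rw [← hQt]
    rfl



section fibsupp

variable {R S : Type u} [CommRing R] [CommRing S] [Algebra R S] (p : Ideal R) [p.IsPrime]
  (N : Type u) [AddCommGroup N] [Module S N] [Module.Finite S N]

/-- A prime of the fibre ring is in the support of the fibre module iff its contraction contains
the annihilator. -/
lemma mem_support_fiberMod_iff (Q : PrimeSpectrum (p.Fiber S)) :
    Q ∈ Module.support (p.Fiber S) (FlatCA.fiberMod p S N) ↔
      Module.annihilator S N ≤ Q.asIdeal.comap (iota (S := S) p) := by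
  have h1 := Groth.Agent.Lib.Helper12.UnramBC.mem_support_baseChange_iff (A := S)
    (B := p.Fiber S) N Q
  rw [Module.mem_support_iff_of_finite (R := S)] at h1
  exact h1

end fibsupp

/-- Finite fibre supports make the scheme-theoretic support quasi-finite. -/
theorem quasiFinite_quotient_annihilator {A B : Type u} [CommRing A] [CommRing B] [Algebra A B]
    [Algebra.FiniteType A B] (N : Type u) [AddCommGroup N] [Module B N] [Module A N]
    [IsScalarTower A B N] [Module.Finite B N]
    (hfin : ∀ (p : Ideal A) [p.IsPrime],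
      (Module.support (p.Fiber B) (FlatCA.fiberMod p B N)).Finite) :
    Algebra.QuasiFinite A (B ⧸ Module.annihilator B N) := by
  rw [Algebra.QuasiFinite.iff_finite_primesOver]
  intro p hp
  refine ((hfin p).image (fun Q : PrimeSpectrum (p.Fiber B) =>
    (Q.asIdeal.comap (iota (S := B) p)).map (Ideal.Quotient.mk (Module.annihilator B N)))).subset ?_
  rintro q ⟨hq, hqp⟩
  haveI : (q.comap (Ideal.Quotient.mk (Module.annihilator B N))).IsPrime := Ideal.comap_isPrime _ _
  haveI : (q.comap (Ideal.Quotient.mk (Module.annihilator B N))).LiesOver p := by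
    refine ⟨?_⟩
    rw [hqp.over]
    rfl
  obtain ⟨h1, h2⟩ := fiberIdeal_isPrime_and_comap p
    (q.comap (Ideal.Quotient.mk (Module.annihilator B N)))
  refine ⟨⟨_, h1⟩, ?_, ?_⟩
  · rw [mem_support_fiberMod_iff]
    change _ ≤ (FlatCA.fiberIdeal p _).comap _
    rw [h2]
    intro b hb
    rw [Ideal.mem_comap, Ideal.Quotient.eq_zero_iff_mem.mpr hb]
    exact q.zero_mem
  · change ((FlatCA.fiberIdeal p _).comap _).map _ = q
    rw [h2, Ideal.map_comap_of_surjective _ Ideal.Quotient.mk_surjective]



section idem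

variable (A B : Type u) [CommRing A] [CommRing B] [Algebra A B]
  (N : Type u) [AddCommGroup N] [Module B N]
  (R' : Type u) [CommRing R'] [Algebra A R']

/-- `R' ⊗ B → R' ⊗ (B ⧸ Ann N)`. -/
noncomputable def piAnn : R' ⊗[A] B →ₐ[R'] R' ⊗[A] (B ⧸ Module.annihilator B N) :=
  Algebra.TensorProduct.map (AlgHom.id R' R') (Ideal.Quotient.mkₐ A (Module.annihilator B N))

lemma piAnn_surjective : Function.Surjective (piAnn A B N R') :=
  Algebra.TensorProduct.map_surjective _ _ Function.surjective_id
    (Ideal.Quotient.mkₐ_surjective A _)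

lemma ker_piAnn : RingHom.ker (piAnn A B N R') =
    (Module.annihilator B N).map (algebraMap B (R' ⊗[A] B)) := by
  have h := Algebra.TensorProduct.lTensor_ker (R := A) (A := R')
    (Ideal.Quotient.mkₐ A (Module.annihilator B N)) (Ideal.Quotient.mkₐ_surjective A _)
  have h0 : RingHom.ker (Ideal.Quotient.mkₐ A (Module.annihilator B N)) =
      Module.annihilator B N := by
    ext x
    rw [RingHom.mem_ker, Ideal.Quotient.mkₐ_eq_mk, Ideal.Quotient.eq_zero_iff_mem]
  rw [h0] at h
  change _ = Ideal.map (Algebra.TensorProduct.includeRight : B →ₐ[A] R' ⊗[A] B)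
    (Module.annihilator B N)
  rw [← h]
  ext x
  rw [RingHom.mem_ker, RingHom.mem_ker]
  rfl

end idem


section idem2

variable (A B : Type u) [CommRing A] [CommRing B] [Algebra A B]
  (N : Type u) [AddCommGroup N] [Module B N]
  (R' : Type u) [CommRing R'] [Algebra A R']

theorem exists_imp_of_idempotent [Algebra.FiniteType A B] [Module.Finite B N] [IsLocalRing R']
    (e : R' ⊗[A] (B ⧸ Module.annihilator B N)) (he : IsIdempotentElem e) (hne : e ≠ 1)
    (hcl : ∀ (q : Ideal (R' ⊗[A] (B ⧸ Module.annihilator B N))) [q.IsPrime],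
      q.LiesOver (maximalIdeal R') → e ∉ q) :
    ∃ (t' : Ideal R') (_ : t'.IsPrime) (P : Ideal (R' ⊗[A] B)) (_ : P.IsPrime),
      Imp R' (R' ⊗[A] B) ((R' ⊗[A] B) ⊗[B] N) t' (maximalIdeal R') P := by
  have hπ := piAnn_surjective A B N R'
  have h1e : IsIdempotentElem (1 - e) := he.one_sub
  have h1ne : (1 - e) ∉ (⊥ : Ideal (R' ⊗[A] (B ⧸ Module.annihilator B N))) := by
    rw [Ideal.mem_bot, sub_eq_zero]; exact fun h => hne h.symm
  obtain ⟨q₀, hq₀, -, hq₀e⟩ :=
    Ideal.exists_le_prime_notMem_of_isIdempotentElem (I := ⊥) (1 - e) h1e h1ne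
  set Q₀ : Ideal (R' ⊗[A] B) := q₀.comap (piAnn A B N R') with hQ₀
  haveI hQ₀p : Q₀.IsPrime := Ideal.comap_isPrime _ _
  set t' : Ideal R' := Q₀.under R' with ht'
  haveI : t'.IsPrime := Ideal.IsPrime.under _ _
  haveI : Q₀.LiesOver t' := ⟨rfl⟩
  obtain ⟨hprime, hcomap⟩ := fiberIdeal_isPrime_and_comap t' Q₀
  have hbc : IsBaseChange (R' ⊗[A] B) (TensorProduct.mk B (R' ⊗[A] B) N 1) :=
    TensorProduct.isBaseChange B N (R' ⊗[A] B)
  have hAnnNH : Module.annihilator (R' ⊗[A] B) ((R' ⊗[A] B) ⊗[B] N) ≤ Q₀ := by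
    have h1 := (Groth.Agent.Lib.Helper12.UnramBC.mem_support_baseChange_iff (A := B)
      (B := R' ⊗[A] B) N ⟨Q₀, hQ₀p⟩).mpr (by
        rw [Module.mem_support_iff_of_finite]
        intro b hb
        change algebraMap B (R' ⊗[A] B) b ∈ Q₀
        have h2 : algebraMap B (R' ⊗[A] B) b ∈ RingHom.ker (piAnn A B N R') := by
          rw [ker_piAnn]; exact Ideal.mem_map_of_mem _ hb
        rw [hQ₀, Ideal.mem_comap, RingHom.mem_ker.mp h2]
        exact q₀.zero_mem)
    rwa [Module.mem_support_iff_of_finite] at h1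
  haveI : Algebra.FiniteType t'.ResidueField (t'.Fiber (R' ⊗[A] B)) := inferInstance
  haveI : IsNoetherianRing (t'.Fiber (R' ⊗[A] B)) :=
    Algebra.FiniteType.isNoetherianRing t'.ResidueField _
  haveI : Module.Finite (t'.Fiber (R' ⊗[A] B))
      (FlatCA.fiberMod t' (R' ⊗[A] B) ((R' ⊗[A] B) ⊗[B] N)) :=
    inferInstanceAs (Module.Finite (t'.Fiber (R' ⊗[A] B))
      ((t'.Fiber (R' ⊗[A] B)) ⊗[R' ⊗[A] B] ((R' ⊗[A] B) ⊗[B] N)))
  have hsupp : (⟨FlatCA.fiberIdeal t' Q₀, hprime⟩ : PrimeSpectrum (t'.Fiber (R' ⊗[A] B))) ∈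
      Module.support (t'.Fiber (R' ⊗[A] B))
        (FlatCA.fiberMod t' (R' ⊗[A] B) ((R' ⊗[A] B) ⊗[B] N)) := by
    rw [mem_support_fiberMod_iff]
    change _ ≤ (FlatCA.fiberIdeal t' Q₀).comap _
    rw [hcomap]
    exact hAnnNH
  rw [Module.mem_support_iff_of_finite] at hsupp
  obtain ⟨𝔓, h𝔓min, h𝔓le⟩ := Ideal.exists_minimalPrimes_le hsupp
  have h𝔓ass := Module.associatedPrimes.minimalPrimes_annihilator_subset_associatedPrimes
    (t'.Fiber (R' ⊗[A] B)) (FlatCA.fiberMod t' (R' ⊗[A] B) ((R' ⊗[A] B) ⊗[B] N)) h𝔓min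
  haveI h𝔓p : 𝔓.IsPrime := h𝔓min.1.1
  set P : Ideal (R' ⊗[A] B) := 𝔓.comap (iota (S := R' ⊗[A] B) t') with hP
  haveI hPp : P.IsPrime := Ideal.comap_isPrime _ _
  haveI hPlo : P.LiesOver t' := comap_iota_liesOver t' 𝔓
  have hP𝔓 : FlatCA.fiberIdeal t' P = 𝔓 := fiberIdeal_comap t' 𝔓
  have hPQ : P ≤ Q₀ := by
    rw [← hcomap]; exact Ideal.comap_mono h𝔓le
  have hkerP : RingHom.ker (piAnn A B N R') ≤ P := by
    rw [ker_piAnn, Ideal.map_le_iff_le_comap]
    intro b hb
    have h1 : algebraMap B (R' ⊗[A] B) b ∈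
        Module.annihilator (R' ⊗[A] B) ((R' ⊗[A] B) ⊗[B] N) :=
      map_annihilator_le_of_isBaseChange _ hbc (Ideal.mem_map_of_mem _ hb)
    have h2 := iota_mem_annihilator_fiberMod t' ((R' ⊗[A] B) ⊗[B] N) h1
    exact h𝔓min.1.2 h2
  refine ⟨t', inferInstance, P, inferInstance, le_maximalIdeal (Ideal.IsPrime.ne_top ‹_›),
    inferInstance, hP𝔓 ▸ h𝔓ass, ?_⟩
  intro P' _ hPP' hP'over
  have hkerP' : RingHom.ker (piAnn A B N R') ≤ P' := hkerP.trans hPP'
  haveI : (P'.map (piAnn A B N R')).IsPrime := Ideal.map_isPrime_of_surjective hπ hkerP'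
  have hcm : (P'.map (piAnn A B N R')).comap (piAnn A B N R') = P' := by
    rw [Ideal.comap_map_of_surjective _ hπ]
    refine le_antisymm (sup_le le_rfl ?_) le_sup_left
    rw [← RingHom.ker_eq_comap_bot]
    exact hkerP'
  have hover : (P'.map (piAnn A B N R')).LiesOver (maximalIdeal R') := by
    refine ⟨?_⟩
    rw [hP'over.over]
    ext x
    simp only [Ideal.under, Ideal.mem_comap]
    constructor
    · intro hx
      have := Ideal.mem_map_of_mem (piAnn A B N R') hx
      rwa [AlgHom.commutes] at this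
    · intro hx
      have h4 : algebraMap R' (R' ⊗[A] B) x ∈
          (P'.map (piAnn A B N R')).comap (piAnn A B N R') := by
        rw [Ideal.mem_comap, AlgHom.commutes]; exact hx
      rwa [hcm] at h4
  refine hcl _ hover ?_
  haveI : (P.map (piAnn A B N R')).IsPrime := Ideal.map_isPrime_of_surjective hπ hkerP
  have h0 : e * (1 - e) ∈ P.map (piAnn A B N R') := by
    rw [mul_sub, mul_one, he.eq, sub_self]; exact zero_mem _
  have heP : e ∈ P.map (piAnn A B N R') := by
    rcases Ideal.IsPrime.mem_or_mem ‹_› h0 with h | h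
    · exact h
    · exfalso
      apply hq₀e
      have h3 : P.map (piAnn A B N R') ≤ q₀ := by
        calc P.map (piAnn A B N R') ≤ Q₀.map (piAnn A B N R') := Ideal.map_mono hPQ
          _ = q₀ := Ideal.map_comap_of_surjective _ hπ q₀
      exact h3 h
  exact Ideal.map_mono hPP' heP

end idem2


end Groth.Agent.Lib.Helper14.Impurity
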