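import Mathlib
import Groth.Prelude.Def_FlatCA
import Groth.Agent.Lib.Helper14.Impurity.Core
import Groth.Agent.Lib.Helper28.GenFreeFT

/-!
# Moving the generic point of an impurity over a Noetherian domain (helper14)
-/

set_option autoImplicit false
set_option linter.style.haveILetI false
universe u

open TensorProduct

namespace Groth.Agent.Lib.Helper14.Impurity

attribute [local instance] Algebra.TensorProduct.rightAlgebra

section fibreMod

variable {D E : Type u} [CommRing D] [CommRing E] [Algebra D E] (p : Ideal D) [p.IsPrime]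
  (M : Type u) [AddCommGroup M] [Module E M] [Module D M] [IsScalarTower D E M]

lemma iota_smul_one_tmul (e : E) (n : M) :
    iota (S := E) p e • ((1 : p.Fiber E) ⊗ₜ[E] n) = (1 : p.Fiber E) ⊗ₜ[E] (e • n) := by
  rw [TensorProduct.smul_tmul', smul_eq_mul, mul_one, TensorProduct.tmul_smul,
    TensorProduct.smul_tmul']
  congr 1
  change _ = e • (1 : p.Fiber E)
  rw [Algebra.smul_def, mul_one]
  rfl

lemma one_tmul_smul_base (r : D) (n : M) :
    (1 : p.Fiber E) ⊗ₜ[E] (r • n) = algebraMap D (p.Fiber E) r • ((1 : p.Fiber E) ⊗ₜ[E] n) := by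
  rw [← algebraMap_smul E r n, ← iota_smul_one_tmul]
  congr 1
  exact (Algebra.TensorProduct.includeRight (R := D) (A := p.ResidueField) (B := E)).commutes r

/-- Every element of the fibre module is, up to a unit coming from `D \ p`, of the form
`1 ⊗ n`. -/
lemma exists_smul_eq_one_tmul (x : (p.Fiber E) ⊗[E] M) :
    ∃ r ∉ p, ∃ n : M, algebraMap D (p.Fiber E) r • x = (1 : p.Fiber E) ⊗ₜ[E] n := by
  induction x using TensorProduct.induction_on with
  | zero => exact ⟨1, fun h => ‹p.IsPrime›.ne_top ((Ideal.eq_top_iff_one p).mpr h), 0, by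
      rw [TensorProduct.tmul_zero]; exact smul_zero _⟩
  | tmul f m =>
    obtain ⟨r, hr, a, ha⟩ := Ideal.Fiber.exists_smul_eq_one_tmul p f
    refine ⟨r, hr, a • m, ?_⟩
    rw [← iota_smul_one_tmul, TensorProduct.smul_tmul', TensorProduct.smul_tmul', smul_eq_mul,
      smul_eq_mul, mul_one, ← Algebra.smul_def, ha]
    rfl
  | add x y hx hy =>
    obtain ⟨r₁, hr₁, n₁, h₁⟩ := hx
    obtain ⟨r₂, hr₂, n₂, h₂⟩ := hy
    refine ⟨r₁ * r₂, fun h => (‹p.IsPrime›.mem_or_mem h).elim hr₁ hr₂, r₂ • n₁ + r₁ • n₂, ?_⟩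
    rw [TensorProduct.tmul_add, one_tmul_smul_base, one_tmul_smul_base, ← h₁, ← h₂, smul_add,
      map_mul, smul_smul, smul_smul, mul_comm]

end fibreMod

section cancel

variable {D E : Type u} [CommRing D] [CommRing E] [Algebra D E] (p : Ideal D) [p.IsPrime]
  (M : Type u) [AddCommGroup M] [Module E M] [Module D M] [IsScalarTower D E M]

/-- `1 ⊗ m` vanishes in the fibre module iff it vanishes in `κ(p) ⊗[D] M`. -/
lemma one_tmul_eq_zero_iff (m : M) :
    ((1 : p.Fiber E) ⊗ₜ[E] m = 0) ↔ ((1 : p.ResidueField) ⊗ₜ[D] m = 0) := by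
  let e := Algebra.IsPushout.cancelBaseChange D p.ResidueField E (p.Fiber E) M
  have he : e ((1 : p.Fiber E) ⊗ₜ[E] m) = (1 : p.ResidueField) ⊗ₜ[D] m :=
    Algebra.IsPushout.cancelBaseChange_tmul D p.ResidueField E (p.Fiber E) M m
  rw [← he, LinearEquiv.map_eq_zero_iff]

end cancel

section move

variable {D E : Type u} [CommRing D] [IsDomain D] [CommRing E] [Algebra D E]
  [Algebra.FiniteType D E] [IsNoetherianRing E]
  (M : Type u) [AddCommGroup M] [Module E M] [Module D M] [IsScalarTower D E M]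
  [Module.Finite E M]

omit [Algebra.FiniteType D E] [IsNoetherianRing E] [Module.Finite E M] in
/-- Over a domain, `1 ⊗ m = 0` in the generic fibre module means `m` is torsion. -/
lemma exists_ne_zero_smul_eq_zero (m : M)
    (hm : (1 : (⊥ : Ideal D).Fiber E) ⊗ₜ[E] m = 0) : ∃ r : D, r ≠ 0 ∧ r • m = 0 := by
  rw [one_tmul_eq_zero_iff] at hm
  have h1 : TensorProduct.mk D (⊥ : Ideal D).ResidueField M 1 m = 0 := hm
  rw [IsLocalizedModule.eq_zero_iff (nonZeroDivisors D)] at h1
  obtain ⟨c, hc⟩ := h1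
  exact ⟨c, nonZeroDivisors.ne_zero c.2, hc⟩

/-- Moving the generic point of an impurity over a domain: there is a nonzero `h` such that every
prime `t₁ ≤ t` not containing `h` is the generic point of an impurity with the same end point. -/
theorem exists_ne_zero_forall_imp (t : Ideal D) [t.IsPrime] (P : Ideal E) [P.IsPrime]
    (himp : Imp D E M ⊥ t P) :
    ∃ h : D, h ≠ 0 ∧ ∀ (t₁ : Ideal D) [t₁.IsPrime], t₁ ≤ t → h ∉ t₁ →
      ∃ (P₁ : Ideal E) (_ : P₁.IsPrime), Imp D E M t₁ t P₁ := by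
  classical
  obtain ⟨-, hlo, hass, hcl⟩ := himp
  haveI : IsNoetherianRing ((⊥ : Ideal D).Fiber E) :=
    Algebra.FiniteType.isNoetherianRing (⊥ : Ideal D).ResidueField _
  have hass' : IsAssociatedPrime (FlatCA.fiberIdeal (⊥ : Ideal D) P)
      (((⊥ : Ideal D).Fiber E) ⊗[E] M) := hass
  obtain ⟨hprime, x, hx⟩ := isAssociatedPrime_iff.mp hass'
  obtain ⟨r, hr, n, hn⟩ := exists_smul_eq_one_tmul (⊥ : Ideal D) M x
  have hu : IsUnit (algebraMap D ((⊥ : Ideal D).Fiber E) r) :=
    isUnit_algebraMap_fiber (S := E) (⊥ : Ideal D) hr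
  have hann : ∀ f : (⊥ : Ideal D).Fiber E,
      f • ((1 : (⊥ : Ideal D).Fiber E) ⊗ₜ[E] n) = 0 ↔ f ∈ FlatCA.fiberIdeal (⊥ : Ideal D) P := by
    intro f
    rw [← hn, smul_comm, hu.smul_eq_zero, hx, Submodule.mem_colon_singleton, Submodule.mem_bot]
  have hb : ∀ b ∈ P, ∃ r : D, r ≠ 0 ∧ r • (b • n) = 0 := by
    intro b hb
    have h1 : iota (S := E) (⊥ : Ideal D) b • ((1 : (⊥ : Ideal D).Fiber E) ⊗ₜ[E] n) = 0 :=
      (hann _).mpr (Ideal.mem_map_of_mem _ hb)
    rw [iota_smul_one_tmul] at h1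
    exact exists_ne_zero_smul_eq_zero M _ h1
  -- a common denominator
  obtain ⟨S, hS⟩ := (isNoetherianRing_iff_ideal_fg E).mp inferInstance P
  let rb : E → D := fun b => if hb' : b ∈ P then (hb b hb').choose else 1
  have hrb0 : ∀ b, rb b ≠ 0 := by
    intro b
    simp only [rb]
    split_ifs with hb'
    · exact (hb b hb').choose_spec.1
    · exact one_ne_zero
  have hrb : ∀ b ∈ P, rb b • (b • n) = 0 := by
    intro b hb'
    simp only [rb, dif_pos hb']
    exact (hb b hb').choose_spec.2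
  let r₀ : D := ∏ b ∈ S, rb b
  have hr₀ : r₀ ≠ 0 := Finset.prod_ne_zero_iff.mpr (fun b _ => hrb0 b)
  have hr₀S : ∀ b ∈ P, r₀ • (b • n) = 0 := by
    intro b hbP
    rw [← hS] at hbP
    refine Submodule.span_induction (p := fun b _ => r₀ • (b • n) = 0) ?_ ?_ ?_ ?_ hbP
    · intro b hbS
      have hbP' : b ∈ P := hS ▸ Ideal.subset_span hbS
      have hdvd : rb b ∣ r₀ := Finset.dvd_prod_of_mem rb hbS
      obtain ⟨c, hc⟩ := hdvd
      rw [hc, mul_comm, mul_smul, hrb b hbP', smul_zero]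
    · rw [zero_smul, smul_zero]
    · intro a b _ _ ha hb
      rw [add_smul, smul_add, ha, hb, add_zero]
    · intro a b _ hb
      rw [smul_eq_mul, mul_smul, smul_comm r₀ a, hb, smul_zero]
  let n' : M := r₀ • n
  have hPn' : ∀ b ∈ P, b • n' = 0 := by
    intro b hbP
    change b • (r₀ • n) = 0
    rw [smul_comm]
    exact hr₀S b hbP
  have hu₀ : IsUnit (algebraMap D ((⊥ : Ideal D).Fiber E) r₀) :=
    isUnit_algebraMap_fiber (S := E) (⊥ : Ideal D) (by simpa using hr₀)
  have hne : (1 : (⊥ : Ideal D).Fiber E) ⊗ₜ[E] n' ≠ 0 := by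
    intro h0
    change (1 : (⊥ : Ideal D).Fiber E) ⊗ₜ[E] (r₀ • n) = 0 at h0
    rw [one_tmul_smul_base, hu₀.smul_eq_zero] at h0
    apply hprime.ne_top
    rw [Ideal.eq_top_iff_one, ← hann, h0, smul_zero]
  -- generic freeness
  obtain ⟨h, hh, hfree⟩ := Groth.Agent.Lib.Helper28.GenFree.genFree_finiteType (R := D) (S := E) M
  haveI : Module.Free (Localization.Away h) (Localization.Away h ⊗[D] M) := hfree
  let z : Localization.Away h ⊗[D] M := 1 ⊗ₜ n'
  have hz : z ≠ 0 := by
    intro hz0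
    have h1 : TensorProduct.mk D (Localization.Away h) M 1 n' = 0 := hz0
    rw [IsLocalizedModule.eq_zero_iff (Submonoid.powers h)] at h1
    obtain ⟨c, hc⟩ := h1
    have hc0 : (c : D) ≠ 0 := by
      obtain ⟨k, hk⟩ := c.2
      rw [← hk]
      exact pow_ne_zero k hh
    apply hne
    have h2 : (1 : (⊥ : Ideal D).Fiber E) ⊗ₜ[E] ((c : D) • n') = 0 := by
      rw [show (c : D) • n' = c • n' from rfl, hc, TensorProduct.tmul_zero]
    rw [one_tmul_smul_base] at h2
    exact ((isUnit_algebraMap_fiber (S := E) (⊥ : Ideal D)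
      (by simpa using hc0)).smul_eq_zero).mp h2
  obtain ⟨φ, hφ⟩ := Module.Projective.exists_dual_ne_zero (Localization.Away h) hz
  obtain ⟨⟨c, s⟩, hcs⟩ := IsLocalization.surj (Submonoid.powers h) (φ z)
  have hc0 : c ≠ 0 := by
    rintro rfl
    rw [map_zero] at hcs
    have hsu : IsUnit (algebraMap D (Localization.Away h) (s : D)) :=
      IsLocalization.map_units _ s
    exact hφ ((hsu.mul_left_eq_zero).mp hcs)
  refine ⟨h * c, mul_ne_zero hh hc0, ?_⟩
  intro t₁ _ ht₁ hht₁
  have hht : h ∉ t₁ := fun hm => hht₁ (t₁.mul_mem_right _ hm)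
  have hct : c ∉ t₁ := fun hm => hht₁ (t₁.mul_mem_left _ hm)
  -- `1 ⊗ n' ≠ 0` in the fibre module over `t₁`
  have hx₁ : (1 : t₁.Fiber E) ⊗ₜ[E] n' ≠ 0 := by
    rw [Ne, one_tmul_eq_zero_iff]
    intro h0
    have huh : IsUnit (algebraMap D t₁.ResidueField h) :=
      isUnit_iff_ne_zero.mpr (fun h0 => hht (Ideal.algebraMap_residueField_eq_zero.mp h0))
    let ψ : Localization.Away h →+* t₁.ResidueField := IsLocalization.Away.lift h huh
    letI : Algebra (Localization.Away h) t₁.ResidueField := ψ.toAlgebra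
    haveI : IsScalarTower D (Localization.Away h) t₁.ResidueField :=
      .of_algebraMap_eq (fun d => (IsLocalization.Away.lift_eq h huh d).symm)
    let l : M →ₗ[D] t₁.ResidueField :=
      ((Algebra.linearMap (Localization.Away h) t₁.ResidueField).restrictScalars D).comp
        ((φ.restrictScalars D).comp (TensorProduct.mk D (Localization.Away h) M 1))
    have hl : l n' = ψ (φ z) := rfl
    have h1 : l.liftBaseChange t₁.ResidueField ((1 : t₁.ResidueField) ⊗ₜ[D] n') = 0 := by
      rw [h0, map_zero]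
    rw [LinearMap.liftBaseChange_one_tmul, hl] at h1
    have h2 := congrArg ψ hcs
    rw [map_mul, h1, zero_mul] at h2
    have h3 : ψ (algebraMap D (Localization.Away h) c) = algebraMap D t₁.ResidueField c :=
      IsLocalization.Away.lift_eq h huh c
    rw [h3] at h2
    exact hct (Ideal.algebraMap_residueField_eq_zero.mp h2.symm)
  haveI : IsNoetherianRing (t₁.Fiber E) :=
    Algebra.FiniteType.isNoetherianRing t₁.ResidueField _
  obtain ⟨Q, hQ, hQle⟩ := exists_le_isAssociatedPrime_of_isNoetherianRing (t₁.Fiber E)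
    ((1 : t₁.Fiber E) ⊗ₜ[E] n') hx₁
  haveI hQp : Q.IsPrime := hQ.isPrime
  have hPQ : P ≤ Q.comap (iota (S := E) t₁) := by
    intro b hbP
    rw [Ideal.mem_comap]
    apply hQle
    rw [Submodule.mem_colon_singleton, Submodule.mem_bot, iota_smul_one_tmul, hPn' b hbP,
      TensorProduct.tmul_zero]
  refine ⟨Q.comap (iota (S := E) t₁), Ideal.comap_isPrime _ _, ht₁, comap_iota_liesOver t₁ Q,
    ?_, ?_⟩
  · rw [fiberIdeal_comap]
    exact hQ
  · intro P' hP' hle hlo
    exact hcl P' (hPQ.trans hle) hlo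

end move

end Groth.Agent.Lib.Helper14.Impurity
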