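import Mathlib
import Groth.Prelude.Def_FlatCA
import Groth.Agent.Lib.Helper14.Impurity.MoveGeneric

/-!
# An intrinsic description of the relative assassin (helper14)

`fiberIdeal p P` is an associated prime of the fibre module of `M` over `p` iff `P` is the set of
elements of `E` killing the image of some `m : M` in `κ(p) ⊗[D] M`.  This only uses the `D`-module
`M` and the action of `E` on it.
-/

set_option autoImplicit false
set_option linter.style.haveILetI false
universe u

open TensorProduct

namespace Groth.Agent.Lib.Helper14.Impurity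

attribute [local instance] Algebra.TensorProduct.rightAlgebra

section char

variable {D E : Type u} [CommRing D] [CommRing E] [Algebra D E] [Algebra.FiniteType D E]
  (p : Ideal D) [p.IsPrime]
  (M : Type u) [AddCommGroup M] [Module E M] [Module D M] [IsScalarTower D E M]

omit [Algebra.FiniteType D E] in
lemma iota_smul_one_tmul_eq_zero_iff (b : E) (m : M) :
    iota (S := E) p b • ((1 : p.Fiber E) ⊗ₜ[E] m) = 0 ↔
      (1 : p.ResidueField) ⊗ₜ[D] (b • m) = 0 := by
  rw [iota_smul_one_tmul, one_tmul_eq_zero_iff]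

theorem fiberIdeal_mem_ass_iff (P : Ideal E) [P.IsPrime] [P.LiesOver p] :
    FlatCA.fiberIdeal p P ∈ associatedPrimes (p.Fiber E) (FlatCA.fiberMod p E M) ↔
      ∃ m : M, ∀ b : E, b ∈ P ↔ (1 : p.ResidueField) ⊗ₜ[D] (b • m) = 0 := by
  haveI : IsNoetherianRing (p.Fiber E) := Algebra.FiniteType.isNoetherianRing p.ResidueField _
  obtain ⟨hprime, hcomap⟩ := fiberIdeal_isPrime_and_comap p P
  constructor
  · intro hass
    have hass' : IsAssociatedPrime (FlatCA.fiberIdeal p P) ((p.Fiber E) ⊗[E] M) := hass
    obtain ⟨-, x, hx⟩ := isAssociatedPrime_iff.mp hass'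
    obtain ⟨r, hr, n, hn⟩ := exists_smul_eq_one_tmul p M x
    have hu : IsUnit (algebraMap D (p.Fiber E) r) := isUnit_algebraMap_fiber (S := E) p hr
    refine ⟨n, fun b => ?_⟩
    rw [← iota_smul_one_tmul_eq_zero_iff, ← hn, smul_comm, hu.smul_eq_zero]
    conv_lhs => rw [← hcomap]
    rw [Ideal.mem_comap, hx, Submodule.mem_colon_singleton, Submodule.mem_bot]
  · rintro ⟨m, hm⟩
    set I : Ideal (p.Fiber E) :=
      (⊥ : Submodule (p.Fiber E) ((p.Fiber E) ⊗[E] M)).colon {(1 : p.Fiber E) ⊗ₜ[E] m} with hI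
    have h1 : I.comap (iota (S := E) p) = P := by
      ext b
      rw [Ideal.mem_comap, hI, Submodule.mem_colon_singleton, Submodule.mem_bot,
        iota_smul_one_tmul_eq_zero_iff, hm b]
    have h2 : FlatCA.fiberIdeal p P = I := by
      rw [← h1]; exact fiberIdeal_comap p I
    have h3 : IsAssociatedPrime (FlatCA.fiberIdeal p P) ((p.Fiber E) ⊗[E] M) :=
      isAssociatedPrime_iff.mpr ⟨hprime, (1 : p.Fiber E) ⊗ₜ[E] m, h2⟩
    exact h3

end char

end Groth.Agent.Lib.Helper14.Impurity
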