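import Mathlib
import Groth.Prelude.Def_FlatCA
import Groth.Agent.Lib.Helper14.Impurity.RelAssChar
import Groth.Agent.Lib.Helper14.Impurity.FinSupp

/-!
# Impurities and closed immersions (helper14)
-/

set_option autoImplicit false
set_option linter.style.haveILetI false
universe u

open TensorProduct

namespace Groth.Agent.Lib.Helper14.Impurity

attribute [local instance] Algebra.TensorProduct.rightAlgebra


section surj

variable {A' B' C' : Type u} [CommRing A'] [CommRing B'] [CommRing C'] [Algebra A' B']
  [Algebra A' C'] [Algebra B' C'] [IsScalarTower A' B' C'] [Algebra.FiniteType A' B']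
  (hsurj : Function.Surjective (algebraMap B' C'))
  (N' N'' : Type u) [AddCommGroup N'] [Module B' N'] [Module A' N'] [IsScalarTower A' B' N']
  [AddCommGroup N''] [Module C' N''] [Module B' N''] [IsScalarTower B' C' N''] [Module A' N'']
  [IsScalarTower A' C' N''] [IsScalarTower A' B' N'']
  (t' t : Ideal A') [t'.IsPrime] [t.IsPrime] (PC : Ideal C') [PC.IsPrime]

omit [Algebra.FiniteType A' B'] [t'.IsPrime] [PC.IsPrime] in
lemma liesOver_comap_iff :
    (PC.comap (algebraMap B' C')).LiesOver t' ↔ PC.LiesOver t' := by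
  have h : (PC.comap (algebraMap B' C')).under A' = PC.under A' := by
    ext a
    simp only [Ideal.under, Ideal.mem_comap]
    rw [← IsScalarTower.algebraMap_apply]
  constructor
  · intro h1; exact ⟨by rw [h1.over, h]⟩
  · intro h1; exact ⟨by rw [h1.over, h]⟩

include hsurj in
theorem imp_comap_iff (e : N' ≃ₗ[B'] N'') :
    Imp A' B' N' t' t (PC.comap (algebraMap B' C')) ↔ Imp A' C' N'' t' t PC := by
  haveI : Algebra.FiniteType A' C' :=
    Algebra.FiniteType.of_surjective (IsScalarTower.toAlgHom A' B' C') hsurj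
  let eA : N' ≃ₗ[A'] N'' :=
    { e with
      map_smul' := fun a x => by
        change e (a • x) = a • e x
        rw [← algebraMap_smul B' a x, ← algebraMap_smul B' a (e x), map_smul] }
  have heA : ∀ x, eA x = e x := fun _ => rfl
  have hzero : ∀ x : N', (1 : t'.ResidueField) ⊗ₜ[A'] x = 0 ↔
      (1 : t'.ResidueField) ⊗ₜ[A'] (e x) = 0 := by
    intro x
    rw [← heA, ← LinearEquiv.lTensor_tmul t'.ResidueField eA, LinearEquiv.map_eq_zero_iff]
  unfold Imp
  refine and_congr Iff.rfl ?_
  rw [liesOver_comap_iff]
  refine and_congr_right fun hlo => ?_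
  haveI := hlo
  haveI : (PC.comap (algebraMap B' C')).LiesOver t' := (liesOver_comap_iff t' PC).mpr hlo
  refine and_congr ?_ ?_
  · rw [fiberIdeal_mem_ass_iff, fiberIdeal_mem_ass_iff]
    constructor
    · rintro ⟨m, hm⟩
      refine ⟨e m, fun c => ?_⟩
      obtain ⟨b, rfl⟩ := hsurj c
      rw [algebraMap_smul, ← map_smul, ← hzero, ← hm b, Ideal.mem_comap]
    · rintro ⟨m, hm⟩
      refine ⟨e.symm m, fun b => ?_⟩
      rw [Ideal.mem_comap, hm, algebraMap_smul, hzero, map_smul, e.apply_symm_apply]
  · constructor
    · intro h P' _ hle hover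
      haveI : (P'.comap (algebraMap B' C')).IsPrime := Ideal.comap_isPrime _ _
      exact h (P'.comap (algebraMap B' C')) (Ideal.comap_mono hle)
        ((liesOver_comap_iff t P').mpr hover)
    · intro h P' _ hle hover
      have hker : RingHom.ker (algebraMap B' C') ≤ P' :=
        le_trans (by rw [RingHom.ker_eq_comap_bot]; exact Ideal.comap_mono bot_le) hle
      haveI : (P'.map (algebraMap B' C')).IsPrime := Ideal.map_isPrime_of_surjective hsurj hker
      have hcm : (P'.map (algebraMap B' C')).comap (algebraMap B' C') = P' := by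
        rw [Ideal.comap_map_of_surjective _ hsurj]
        refine le_antisymm (sup_le le_rfl ?_) le_sup_left
        rw [← RingHom.ker_eq_comap_bot]
        exact hker
      refine h (P'.map (algebraMap B' C')) ?_ ?_
      · calc PC = (PC.comap (algebraMap B' C')).map (algebraMap B' C') :=
              (Ideal.map_comap_of_surjective _ hsurj PC).symm
          _ ≤ _ := Ideal.map_mono hle
      · rw [← liesOver_comap_iff (B' := B') t (P'.map (algebraMap B' C')), hcm]
        exact hover

end surj



section Z

variable {A B C : Type u} [CommRing A] [CommRing B] [CommRing C] [Algebra A B] [Algebra B C]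
  [Algebra A C]
  (N : Type u) [AddCommGroup N] [Module C N] [Module B N] [IsScalarTower B C N]
  [Module A N] [IsScalarTower A B N] [IsScalarTower A C N]
  (A' B' C' : Type u) [CommRing A'] [CommRing B'] [CommRing C'] [Algebra A A']
  [Algebra B B'] [Algebra A' B'] [Algebra A B'] [IsScalarTower A B B'] [IsScalarTower A A' B']
  [Algebra.IsPushout A B A' B']
  [Algebra C C'] [Algebra A' C'] [Algebra A C'] [IsScalarTower A C C'] [IsScalarTower A A' C']
  [Algebra.IsPushout A C A' C']
  [Algebra B' C'] [Algebra B C'] [IsScalarTower B B' C']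
  [IsScalarTower B C C']
  (N' : Type u) [AddCommGroup N'] [Module B' N'] [Module B N'] [IsScalarTower B B' N']
  [Module A' N'] [IsScalarTower A' B' N']
  (N'' : Type u) [AddCommGroup N''] [Module C' N''] [Module C N''] [IsScalarTower C C' N'']
  [Module A' N''] [IsScalarTower A' C' N''] [Module B' N''] [IsScalarTower B' C' N'']
  [IsScalarTower A' B' N'']

include A A' in
theorem exists_linearEquiv_of_isBaseChange (f : N →ₗ[B] N') (hf : IsBaseChange B' f)
    (g : N →ₗ[C] N'') (hg : IsBaseChange C' g) :
    ∃ e : N' ≃ₗ[B'] N'', ∀ n, e (f n) = g n := by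
  haveI : Algebra.IsPushout A A' B B' := Algebra.IsPushout.symm inferInstance
  haveI : Algebra.IsPushout A A' C C' := Algebra.IsPushout.symm inferInstance
  let ψB : N' ≃ₗ[A'] A' ⊗[A] N :=
    (hf.equiv.symm.restrictScalars A') ≪≫ₗ Algebra.IsPushout.cancelBaseChange A A' B B' N
  let ψC : N'' ≃ₗ[A'] A' ⊗[A] N :=
    (hg.equiv.symm.restrictScalars A') ≪≫ₗ Algebra.IsPushout.cancelBaseChange A A' C C' N
  have hψB : ∀ n, ψB (f n) = (1 : A') ⊗ₜ[A] n := by
    intro n
    change Algebra.IsPushout.cancelBaseChange A A' B B' N (hf.equiv.symm (f n)) = _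
    rw [hf.equiv_symm_apply, Algebra.IsPushout.cancelBaseChange_tmul]
  have hψC : ∀ n, ψC (g n) = (1 : A') ⊗ₜ[A] n := by
    intro n
    change Algebra.IsPushout.cancelBaseChange A A' C C' N (hg.equiv.symm (g n)) = _
    rw [hg.equiv_symm_apply, Algebra.IsPushout.cancelBaseChange_tmul]
  let e₀ : N' ≃ₗ[A'] N'' := ψB ≪≫ₗ ψC.symm
  have he₀ : ∀ n, e₀ (f n) = g n := by
    intro n
    change ψC.symm (ψB (f n)) = g n
    rw [hψB, ← hψC, ψC.symm_apply_apply]
  have hbase : IsBaseChange A' (IsScalarTower.toAlgHom A B B').toLinearMap :=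
    Algebra.IsPushout.out
  have h1 : ∀ (b' : B') (n : N), e₀ (b' • f n) = b' • g n := by
    intro b' n
    induction b' using hbase.inductionOn with
    | zero => simp
    | tmul b =>
      change e₀ (algebraMap B B' b • f n) = algebraMap B B' b • g n
      rw [algebraMap_smul, ← map_smul, he₀, ← algebraMap_smul C b n, map_smul,
        ← algebraMap_smul C' (algebraMap B C b) (g n), ← algebraMap_smul C' (algebraMap B B' b) (g n),
        ← IsScalarTower.algebraMap_apply B C C', ← IsScalarTower.algebraMap_apply B B' C']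
    | smul a b' hb' =>
      rw [smul_assoc, map_smul, hb', smul_assoc]
    | add x y hx hy => rw [add_smul, map_add, hx, hy, add_smul]
  have h2 : ∀ (x : N') (b' : B'), e₀ (b' • x) = b' • e₀ x := by
    intro x
    induction x using hf.inductionOn with
    | zero => intro b'; simp
    | tmul n => intro b'; rw [h1, he₀]
    | smul c y hy =>
      intro b'
      rw [smul_smul, hy, hy, smul_smul]
    | add x y hx hy => intro b'; rw [smul_add, map_add, hx, hy, map_add, smul_add]
  exact ⟨{ e₀ with map_smul' := fun b' x => h2 x b' }, he₀⟩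

end Z


section W

variable (A B C : Type u) [CommRing A] [CommRing B] [CommRing C] [Algebra A B] [Algebra B C]
  [Algebra A C] [IsScalarTower A B C]
  (A' B' C' : Type u) [CommRing A'] [CommRing B'] [CommRing C'] [Algebra A A']
  [Algebra B B'] [Algebra A' B'] [Algebra A B'] [IsScalarTower A B B'] [IsScalarTower A A' B']
  [Algebra C C'] [Algebra A' C'] [Algebra A C'] [IsScalarTower A C C'] [IsScalarTower A A' C']
  [Algebra.IsPushout A B A' B']

/-- The map `B' → C'` of base changes induced by `B → C`. -/
noncomputable def phiBC : B' →ₐ[A] C' :=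
  Algebra.pushoutDesc B' ((IsScalarTower.toAlgHom A C C').comp (IsScalarTower.toAlgHom A B C))
    (IsScalarTower.toAlgHom A A' C') (fun _ _ => mul_comm _ _)

lemma phiBC_left (b : B) :
    phiBC A B C A' B' C' (algebraMap B B' b) = algebraMap C C' (algebraMap B C b) :=
  Algebra.pushoutDesc_left _ _ _ _ b

lemma phiBC_right (a : A') :
    phiBC A B C A' B' C' (algebraMap A' B' a) = algebraMap A' C' a :=
  Algebra.pushoutDesc_right _ _ _ _ a

end W

theorem isImpurity_comap_iff
    {A B C : Type u} [CommRing A] [CommRing B] [CommRing C] [Algebra A B] [Algebra B C]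
    [Algebra A C] [IsScalarTower A B C] [Algebra.FiniteType A B]
    (hBC : Function.Surjective (algebraMap B C))
    (N : Type u) [AddCommGroup N] [Module C N] [Module B N] [IsScalarTower B C N] (p : Ideal A)
    [p.IsPrime] (A' : Type u) [CommRing A'] [Algebra A A']
    (B' N' : Type u) [CommRing B'] [Algebra B B'] [Algebra A' B'] [Algebra A B']
    [IsScalarTower A B B'] [IsScalarTower A A' B']
    [AddCommGroup N'] [Module B' N'] [Module B N'] [IsScalarTower B B' N'] [Module A' N']
    [IsScalarTower A' B' N'] (f : N →ₗ[B] N')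
    (C' N'' : Type u) [CommRing C'] [Algebra C C'] [Algebra A' C'] [Algebra A C']
    [IsScalarTower A C C'] [IsScalarTower A A' C']
    [AddCommGroup N''] [Module C' N''] [Module C N''] [IsScalarTower C C' N''] [Module A' N'']
    [IsScalarTower A' C' N''] (g : N →ₗ[C] N'')
    [hpB : Algebra.IsPushout A B A' B'] (hf : IsBaseChange B' f)
    [hpC : Algebra.IsPushout A C A' C'] (hg : IsBaseChange C' g)
    (t' t : Ideal A') [t'.IsPrime] [t.IsPrime] :
    Function.Surjective (phiBC A B C A' B' C') ∧
      RingHom.ker (phiBC A B C A' B' C') ≤ Module.annihilator B' N' ∧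
      ∀ (PC : Ideal C') [PC.IsPrime], (FlatCA.IsImpurity A B N p A' B' N' f t' t
          (PC.comap (phiBC A B C A' B' C').toRingHom) ↔
        FlatCA.IsImpurity A C N p A' C' N'' g t' t PC) := by
  letI : Module A N := Module.compHom N (algebraMap A B)
  haveI : IsScalarTower A B N := IsScalarTower.of_algebraMap_smul (fun r x => rfl)
  haveI : IsScalarTower A C N := IsScalarTower.of_algebraMap_smul (fun r x => by
    show algebraMap A C r • x = algebraMap A B r • x
    rw [IsScalarTower.algebraMap_apply A B C, algebraMap_smul])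
  letI : Algebra B' C' := (phiBC A B C A' B' C').toRingHom.toAlgebra
  have halg : ∀ x, algebraMap B' C' x = phiBC A B C A' B' C' x := fun _ => rfl
  haveI : IsScalarTower A' B' C' := IsScalarTower.of_algebraMap_eq (fun a => by
    rw [halg, phiBC_right])
  letI : Algebra B C' := ((algebraMap C C').comp (algebraMap B C)).toAlgebra
  haveI : IsScalarTower B C C' := IsScalarTower.of_algebraMap_eq (fun _ => rfl)
  haveI : IsScalarTower B B' C' := IsScalarTower.of_algebraMap_eq (fun b => by
    rw [halg, phiBC_left]; rfl)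
  letI : Module B' N'' := Module.compHom N'' (algebraMap B' C')
  haveI : IsScalarTower B' C' N'' := IsScalarTower.of_algebraMap_smul (fun _ _ => rfl)
  haveI : IsScalarTower A' B' N'' := IsScalarTower.of_algebraMap_smul (fun a x => by
    show algebraMap B' C' (algebraMap A' B' a) • x = a • x
    rw [← IsScalarTower.algebraMap_apply A' B' C', algebraMap_smul])
  obtain ⟨e, he⟩ := exists_linearEquiv_of_isBaseChange (A := A) N A' B' C' N' N'' f hf g hg
  have hsurj : Function.Surjective (algebraMap B' C') := by
    intro y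
    haveI : Algebra.IsPushout A A' C C' := Algebra.IsPushout.symm inferInstance
    have hbase : IsBaseChange A' (IsScalarTower.toAlgHom A C C').toLinearMap :=
      Algebra.IsPushout.out
    induction y using hbase.inductionOn with
    | zero => exact ⟨0, map_zero _⟩
    | tmul c =>
      obtain ⟨b, rfl⟩ := hBC c
      exact ⟨algebraMap B B' b, by rw [halg, phiBC_left]; rfl⟩
    | smul a y hy =>
      obtain ⟨x, rfl⟩ := hy
      exact ⟨a • x, by rw [Algebra.smul_def, map_mul, ← IsScalarTower.algebraMap_apply,
        ← Algebra.smul_def]⟩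
    | add x y hx hy =>
      obtain ⟨x, rfl⟩ := hx
      obtain ⟨y, rfl⟩ := hy
      exact ⟨x + y, map_add _ _ _⟩
  haveI : Algebra.FiniteType A' B' := finiteType_of_isPushout A A' B B'
  refine ⟨hsurj, ?_, fun PC _ => ?_⟩
  · intro b' hb'
    rw [Module.mem_annihilator]
    intro x
    apply e.injective
    rw [map_smul, map_zero]
    change algebraMap B' C' b' • e x = 0
    rw [halg, RingHom.mem_ker.mp hb', zero_smul]
  · have hX := imp_comap_iff hsurj N' N'' t' t PC e
    rw [isImpurity_iff, isImpurity_iff]
    constructor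
    · rintro ⟨_, _, hlo, himp⟩; exact ⟨hpC, hg, hlo, hX.mp himp⟩
    · rintro ⟨_, _, hlo, himp⟩; exact ⟨hpB, hf, hlo, hX.mpr himp⟩

section final

variable {A B C : Type u} [CommRing A] [CommRing B] [CommRing C] [Algebra A B] [Algebra B C]
  [Algebra A C] [IsScalarTower A B C] [Algebra.FiniteType A B]
  (hBC : Function.Surjective (algebraMap B C))
  (N : Type u) [AddCommGroup N] [Module C N] [Module B N] [IsScalarTower B C N] (p : Ideal A)
  [p.IsPrime] (A' : Type u) [CommRing A'] [Algebra A A'] (t' t : Ideal A') [t'.IsPrime] [t.IsPrime]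

include hBC in
/-- No impurity of the pushforward `N` over `B` if there is none of `N` over `C` (same base). -/
theorem not_isImpurity_of_forall_not_isImpurity_quotient
    (h : ∀ (C' N'' : Type u) [CommRing C'] [Algebra C C'] [Algebra A' C'] [Algebra A C']
      [IsScalarTower A C C'] [IsScalarTower A A' C'] [AddCommGroup N''] [Module C' N'']
      [Module C N''] [IsScalarTower C C' N''] [Module A' N''] [IsScalarTower A' C' N'']
      (g : N →ₗ[C] N'') (PC : Ideal C') [PC.IsPrime],
      ¬ FlatCA.IsImpurity A C N p A' C' N'' g t' t PC)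
    (B' N' : Type u) [CommRing B'] [Algebra B B'] [Algebra A' B'] [Algebra A B']
    [IsScalarTower A B B'] [IsScalarTower A A' B']
    [AddCommGroup N'] [Module B' N'] [Module B N'] [IsScalarTower B B' N'] [Module A' N']
    [IsScalarTower A' B' N'] (f : N →ₗ[B] N') (P : Ideal B') [P.IsPrime] :
    ¬ FlatCA.IsImpurity A B N p A' B' N' f t' t P := by
  intro himp
  obtain ⟨hpush, hbc, hle, hlo, hPt', hass, hcl⟩ := id himp
  haveI := hpush
  haveI := hPt'
  obtain ⟨hsurj, hker, hiff⟩ := isImpurity_comap_iff hBC N p A' B' N' f (A' ⊗[A] C)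
    ((A' ⊗[A] C) ⊗[C] N) (TensorProduct.mk C (A' ⊗[A] C) N 1) hbc
    (TensorProduct.isBaseChange C N (A' ⊗[A] C)) t' t
  have hkerP : RingHom.ker (phiBC A B C A' B' (A' ⊗[A] C)) ≤ P :=
    hker.trans (annihilator_le_of_fiberIdeal_mem_ass t' N' P hass)
  haveI : (P.map (phiBC A B C A' B' (A' ⊗[A] C)).toRingHom).IsPrime :=
    Ideal.map_isPrime_of_surjective hsurj hkerP
  have hcm : (P.map (phiBC A B C A' B' (A' ⊗[A] C)).toRingHom).comap
      (phiBC A B C A' B' (A' ⊗[A] C)).toRingHom = P := by
    rw [Ideal.comap_map_of_surjective (phiBC A B C A' B' (A' ⊗[A] C)).toRingHom hsurj]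
    refine le_antisymm (sup_le le_rfl ?_) le_sup_left
    rw [← RingHom.ker_eq_comap_bot]
    exact hkerP
  have h1 := (hiff (P.map (phiBC A B C A' B' (A' ⊗[A] C)).toRingHom)).mp (by
    convert himp)
  exact h _ _ _ _ h1

include hBC in
/-- No impurity of `N` over `C` if there is none of the pushforward `N` over `B` (same base). -/
theorem not_isImpurity_quotient_of_forall_not_isImpurity
    (h : ∀ (B' N' : Type u) [CommRing B'] [Algebra B B'] [Algebra A' B'] [Algebra A B']
      [IsScalarTower A B B'] [IsScalarTower A A' B'] [AddCommGroup N'] [Module B' N']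
      [Module B N'] [IsScalarTower B B' N'] [Module A' N'] [IsScalarTower A' B' N']
      (f : N →ₗ[B] N') (P : Ideal B') [P.IsPrime],
      ¬ FlatCA.IsImpurity A B N p A' B' N' f t' t P)
    (C' N'' : Type u) [CommRing C'] [Algebra C C'] [Algebra A' C'] [Algebra A C']
    [IsScalarTower A C C'] [IsScalarTower A A' C'] [AddCommGroup N''] [Module C' N'']
    [Module C N''] [IsScalarTower C C' N''] [Module A' N''] [IsScalarTower A' C' N'']
    (g : N →ₗ[C] N'') (PC : Ideal C') [PC.IsPrime] :
    ¬ FlatCA.IsImpurity A C N p A' C' N'' g t' t PC := by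
  intro himp
  obtain ⟨hpush, hbc, -⟩ := id himp
  haveI := hpush
  obtain ⟨-, -, hiff⟩ := isImpurity_comap_iff hBC N p A' (A' ⊗[A] B)
    ((A' ⊗[A] B) ⊗[B] N) (TensorProduct.mk B (A' ⊗[A] B) N 1) C' N'' g
    (TensorProduct.isBaseChange B N (A' ⊗[A] B)) hbc t' t
  exact h _ _ _ _ ((hiff PC).mpr himp)

end final

end Groth.Agent.Lib.Helper14.Impurity
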