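import Mathlib

/-!
# Saturated chains of primes avoiding an element in a Noetherian domain (helper14)
-/

set_option autoImplicit false
universe u

namespace Groth.Agent.Lib.Helper14.Impurity

/-- In a Noetherian domain, if every nonzero prime strictly below the prime `m` contains the
nonzero element `h`, then there is no prime strictly between `0` and `m`. -/
theorem not_exists_between_of_forall_mem {D : Type u} [CommRing D] [IsDomain D]
    [IsNoetherianRing D] (m : Ideal D) [m.IsPrime] (h : D) (hh : h ≠ 0)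
    (hall : ∀ q : Ideal D, q.IsPrime → q ≠ ⊥ → q < m → h ∈ q)
    (q₀ : Ideal D) [q₀.IsPrime] (hq₀ : q₀ ≠ ⊥) (hq₀m : q₀ < m) : False := by
  classical
  have hfin : (Ideal.span {h} : Ideal D).minimalPrimes.Finite :=
    Ideal.finite_minimalPrimes_of_isNoetherianRing D _
  -- height of `m` is at least two
  have hq₀ht : 1 ≤ q₀.height := by
    rw [ENat.one_le_iff_ne_zero, Ne, Ideal.height_eq_zero_iff_eq_bot]
    exact hq₀
  have hmht : 2 ≤ m.height := by
    have := Ideal.height_add_one_le_of_lt_of_isPrime hq₀m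
    calc (2 : ℕ∞) = 1 + 1 := by norm_num
      _ ≤ q₀.height + 1 := by gcongr
      _ ≤ m.height := this
  -- every element of `m` lies in a minimal prime over `(h)` strictly below `m`
  have key : ∀ x ∈ m, x ≠ 0 → ∃ q ∈ (Ideal.span {h} : Ideal D).minimalPrimes, q < m ∧ x ∈ q := by
    intro x hx hx0
    have hle : Ideal.span {x} ≤ m := (Ideal.span_singleton_le_iff_mem m).mpr hx
    obtain ⟨qx, hqx, hqxm⟩ := Ideal.exists_minimalPrimes_le hle
    haveI : qx.IsPrime := hqx.1.1
    have hxq : x ∈ qx := hqx.1.2 (Ideal.mem_span_singleton_self x)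
    have hht : qx.height ≤ 1 :=
      Ideal.height_le_one_of_isPrincipal_of_mem_minimalPrimes (Ideal.span {x}) qx hqx
    have hne : qx ≠ m := by
      rintro rfl
      exact absurd (hmht.trans hht) (by norm_num)
    have hlt : qx < m := lt_of_le_of_ne hqxm hne
    have hbot : qx ≠ ⊥ := by
      rintro rfl
      exact hx0 (by simpa using hxq)
    have hhq : h ∈ qx := hall qx inferInstance hbot hlt
    have hle2 : Ideal.span {h} ≤ qx := (Ideal.span_singleton_le_iff_mem qx).mpr hhq
    obtain ⟨q₂, hq₂, hq₂le⟩ := Ideal.exists_minimalPrimes_le hle2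
    haveI : q₂.IsPrime := hq₂.1.1
    have hq₂bot : q₂ ≠ ⊥ := by
      rintro rfl
      exact hh (by simpa using hq₂.1.2 (Ideal.mem_span_singleton_self h))
    have heq : q₂ = qx := by
      by_contra hne2
      have hlt2 : q₂ < qx := lt_of_le_of_ne hq₂le hne2
      have h1 : 1 ≤ q₂.height := by
        rw [ENat.one_le_iff_ne_zero, Ne, Ideal.height_eq_zero_iff_eq_bot]
        exact hq₂bot
      have h2 := Ideal.height_add_one_le_of_lt_of_isPrime hlt2
      have h3 : (2 : ℕ∞) ≤ qx.height := by
        calc (2 : ℕ∞) = 1 + 1 := by norm_num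
          _ ≤ q₂.height + 1 := by gcongr
          _ ≤ qx.height := h2
      exact absurd (h3.trans hht) (by norm_num)
    exact ⟨qx, heq ▸ hq₂, hlt, hxq⟩
  -- a first member
  have hhq₀ : h ∈ q₀ := hall q₀ inferInstance hq₀ hq₀m
  obtain ⟨q₁, hq₁, hq₁le⟩ := Ideal.exists_minimalPrimes_le
    ((Ideal.span_singleton_le_iff_mem q₀).mpr hhq₀)
  have hq₁m : q₁ < m := lt_of_le_of_lt hq₁le hq₀m
  -- prime avoidance
  let F : Finset (Ideal D) := hfin.toFinset.filter (fun q => q < m)
  have hcover : (m : Set D) ⊆ ⋃ q ∈ (F : Set (Ideal D)), (q : Set D) := by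
    intro x hx
    by_cases hx0 : x = 0
    · subst hx0
      refine Set.mem_biUnion (x := q₁) ?_ (Ideal.zero_mem q₁)
      simp only [F, Finset.coe_filter, Set.Finite.mem_toFinset, Set.mem_setOf_eq]
      exact ⟨hq₁, hq₁m⟩
    · obtain ⟨q, hq, hqm, hxq⟩ := key x hx hx0
      refine Set.mem_biUnion (x := q) ?_ hxq
      simp only [F, Finset.coe_filter, Set.Finite.mem_toFinset, Set.mem_setOf_eq]
      exact ⟨hq, hqm⟩
  have hprime : ∀ q ∈ F, q ≠ q₁ → q ≠ q₁ → (id q : Ideal D).IsPrime := by
    intro q hq _ _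
    simp only [F, Finset.mem_filter, Set.Finite.mem_toFinset] at hq
    exact hq.1.1.1
  obtain ⟨q, hqF, hmq⟩ := (Ideal.subset_union_prime (f := id) q₁ q₁ hprime).mp hcover
  simp only [F, Finset.mem_filter, Set.Finite.mem_toFinset] at hqF
  exact absurd hmq (not_le_of_gt hqF.2)

/-- In a Noetherian domain, below any nonzero prime `m` there is a prime `q` not containing a
given nonzero element `h`, with no prime strictly between `q` and `m`. -/
theorem exists_prime_lt_saturated {D : Type u} [CommRing D] [IsDomain D] [IsNoetherianRing D]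
    (m : Ideal D) [m.IsPrime] (hm : m ≠ ⊥) (h : D) (hh : h ≠ 0) :
    ∃ q : Ideal D, q.IsPrime ∧ q < m ∧ h ∉ q ∧
      ∀ q' : Ideal D, q'.IsPrime → q < q' → q' ≤ m → q' = m := by
  classical
  let Sg : Set (Ideal D) := {q | q.IsPrime ∧ q < m ∧ h ∉ q}
  have hne : Sg.Nonempty := ⟨⊥, Ideal.isPrime_bot, bot_lt_iff_ne_bot.mpr hm, by simpa using hh⟩
  obtain ⟨q, ⟨hqp, hqm, hhq⟩, hmax⟩ := set_has_maximal_iff_noetherian.mpr
    (inferInstance : IsNoetherian D D) Sg hne
  haveI := hqp
  refine ⟨q, hqp, hqm, hhq, ?_⟩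
  intro q' hq'p hqq' hq'm
  by_contra hne'
  have hq'm' : q' < m := lt_of_le_of_ne hq'm hne'
  -- pass to the quotient by `q`
  let D' := D ⧸ q
  let π : D →+* D' := Ideal.Quotient.mk q
  have hπ : Function.Surjective π := Ideal.Quotient.mk_surjective
  have hker : RingHom.ker π = q := Ideal.mk_ker
  haveI : (m.map π).IsPrime :=
    Ideal.map_isPrime_of_surjective hπ (by rw [hker]; exact hqm.le)
  haveI : (q'.map π).IsPrime :=
    Ideal.map_isPrime_of_surjective hπ (by rw [hker]; exact hqq'.le)
  have hcomap : ∀ I : Ideal D, q ≤ I → (I.map π).comap π = I := fun I hI => by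
    rw [Ideal.comap_map_of_surjective π hπ, ← RingHom.ker_eq_comap_bot, hker]
    exact sup_eq_left.mpr hI
  have hh' : π h ≠ 0 := by
    rw [Ne, Ideal.Quotient.eq_zero_iff_mem]
    exact hhq
  refine not_exists_between_of_forall_mem (m.map π) (π h) hh' ?_ (q'.map π) ?_ ?_
  · intro Q hQp hQbot hQm
    haveI := hQp
    have hqQ : q ≤ Q.comap π := fun x hx => by
      rw [Ideal.mem_comap]
      have h0 : π x = 0 := Ideal.Quotient.eq_zero_iff_mem.mpr hx
      rw [h0]
      exact Q.zero_mem
    have hQlt : Q.comap π < m := by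
      have h1 : Q.comap π ≤ m := by
        rw [← hcomap m hqm.le]
        exact Ideal.comap_mono hQm.le
      refine lt_of_le_of_ne h1 ?_
      intro heq
      apply hQm.ne
      rw [← heq, Ideal.map_comap_of_surjective π hπ]
    by_contra hhQ
    have hmem : Q.comap π ∈ Sg := ⟨Ideal.comap_isPrime _ _, hQlt, hhQ⟩
    have hle : Q.comap π ≤ q := (eq_of_le_of_not_lt hqQ (hmax (Q.comap π) hmem)).ge
    apply hQbot
    rw [eq_bot_iff, ← Ideal.map_comap_of_surjective π hπ Q]
    calc (Q.comap π).map π ≤ Ideal.map π q := Ideal.map_mono hle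
      _ = ⊥ := Ideal.map_quotient_self q
  · intro hbot
    have h1 : q' ≤ q := by
      rw [← hcomap q' hqq'.le, hbot, ← RingHom.ker_eq_comap_bot, hker]
    exact absurd hqq' (not_lt_of_ge h1)
  · refine lt_of_le_of_ne (Ideal.map_mono hq'm) ?_
    intro heq
    apply hne'
    rw [← hcomap q' hqq'.le, heq, hcomap m hqm.le]

end Groth.Agent.Lib.Helper14.Impurity
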