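import Mathlib
import Groth.Prelude.Def_FlatCA
import Groth.Agent.Lib.Helper14.Impurity.Core
import Groth.Agent.Lib.Helper14.FlatColim.Core

/-!
# Descent of an impurity to a stage of a directed colimit of base rings (helper14)
-/

set_option autoImplicit false
set_option linter.style.haveILetI false
universe u

open TensorProduct

namespace Groth.Agent.Lib.Helper14.Impurity

attribute [local instance] Algebra.TensorProduct.rightAlgebra

section pushdown

variable {A₁ A₂ B₁ B₂ : Type u} [CommRing A₁] [CommRing A₂] [CommRing B₁] [CommRing B₂]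
  [Algebra A₁ A₂] [Algebra A₁ B₁] [Algebra A₂ B₂] [Algebra B₁ B₂] [Algebra A₁ B₂]
  [IsScalarTower A₁ B₁ B₂] [IsScalarTower A₁ A₂ B₂]
  {N₁ N₂ : Type u} [AddCommGroup N₁] [Module B₁ N₁] [Module A₁ N₁] [IsScalarTower A₁ B₁ N₁]
  [AddCommGroup N₂] [Module B₂ N₂] [Module A₂ N₂] [IsScalarTower A₂ B₂ N₂]
  [Module B₁ N₂] [IsScalarTower B₁ B₂ N₂]

/-- The intrinsic part of an impurity over `(A₂, s' ≤ s)` descends to `A₁` as soon as the closure
condition holds over `A₁`. -/
theorem Imp.pushdown_of_closure [Algebra.IsPushout A₁ B₁ A₂ B₂] [Algebra.FiniteType A₁ B₁]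
    [Module.Finite B₁ N₁] (f : N₁ →ₗ[B₁] N₂) (hf : IsBaseChange B₂ f)
    (s' s : Ideal A₂) [s'.IsPrime] [s.IsPrime] (P₂ : Ideal B₂) [P₂.IsPrime]
    (h : Imp A₂ B₂ N₂ s' s P₂)
    (hcl : ∀ (Q₁ : Ideal B₁) [Q₁.IsPrime], P₂.comap (algebraMap B₁ B₂) ≤ Q₁ →
      ¬ Q₁.LiesOver (s.under A₁)) :
    haveI : (s'.under A₁).IsPrime := Ideal.comap_isPrime _ _
    haveI : (s.under A₁).IsPrime := Ideal.comap_isPrime _ _
    haveI : (P₂.comap (algebraMap B₁ B₂)).IsPrime := Ideal.comap_isPrime _ _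
    Imp A₁ B₁ N₁ (s'.under A₁) (s.under A₁) (P₂.comap (algebraMap B₁ B₂)) := by
  haveI : (s'.under A₁).IsPrime := Ideal.comap_isPrime _ _
  haveI : (s.under A₁).IsPrime := Ideal.comap_isPrime _ _
  haveI : (P₂.comap (algebraMap B₁ B₂)).IsPrime := Ideal.comap_isPrime _ _
  obtain ⟨hle, hlo, hass, -⟩ := h
  haveI := hlo
  haveI hs'lo : s'.LiesOver (s'.under A₁) := ⟨rfl⟩
  refine ⟨Ideal.comap_mono hle, liesOver_comap (s'.under A₁) s' P₂, ?_, hcl⟩
  have h1 := (fibMap_ass (s'.under A₁) s' f hf).1 _ hass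
  rw [comap_fibMap_eq, (fiberIdeal_isPrime_and_comap s' P₂).2] at h1
  exact h1

end pushdown

section closure

/-- The closure condition of an impurity, in equational form. -/
theorem exists_not_mem_mem_sup {A' B' : Type u} [CommRing A'] [CommRing B'] [Algebra A' B']
    (t : Ideal A') [t.IsPrime] (P : Ideal B')
    (hcl : ∀ (P' : Ideal B') [P'.IsPrime], P ≤ P' → ¬ P'.LiesOver t) :
    ∃ a : A', a ∉ t ∧ algebraMap A' B' a ∈ P ⊔ t.map (algebraMap A' B') := by
  by_contra hne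
  push_neg at hne
  have hdisj : Disjoint ((t.primeCompl.map (algebraMap A' B') : Submonoid B') : Set B')
      ((P ⊔ t.map (algebraMap A' B') : Ideal B') : Set B') := by
    rw [Set.disjoint_left]
    rintro x ⟨a, ha, rfl⟩ hx
    exact hne a ha hx
  obtain ⟨Q, hQp, hQle, hQd⟩ := Ideal.exists_le_prime_disjoint _ _ hdisj.symm
  refine hcl Q (le_sup_left.trans hQle) ⟨?_⟩
  ext a
  simp only [Ideal.under, Ideal.mem_comap]
  constructor
  · intro ha
    exact hQle (Ideal.mem_sup_right (Ideal.mem_map_of_mem _ ha))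
  · intro ha
    by_contra hat
    exact (Set.disjoint_left.mp hQd) ha ⟨a, hat, rfl⟩

end closure

section stage

variable {A B : Type u} [CommRing A] [CommRing B] [Algebra A B]
  (A₁ : Type u) [CommRing A₁] [Algebra A A₁]
  (A' B' : Type u) [CommRing A'] [CommRing B'] [Algebra A A'] [Algebra B B'] [Algebra A' B']
  [Algebra A B'] [IsScalarTower A B B'] [IsScalarTower A A' B'] [Algebra A₁ A']
  [IsScalarTower A A₁ A']

/-- The canonical map `A₁ ⊗[A] B → B'` for an `A`-algebra `A₁` mapping to `A'`. -/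
def sigma : A₁ ⊗[A] B →ₐ[A] B' :=
  Algebra.TensorProduct.productMap
    ((IsScalarTower.toAlgHom A A' B').comp (IsScalarTower.toAlgHom A A₁ A'))
    (IsScalarTower.toAlgHom A B B')

lemma sigma_tmul (x : A₁) (b : B) :
    sigma A₁ A' B' (x ⊗ₜ[A] b) = algebraMap A' B' (algebraMap A₁ A' x) * algebraMap B B' b := by
  simp [sigma]

/-- An impurity over `A'` descends to an `A`-algebra `A₁` mapping to `A'` as soon as the closure
condition holds at `A₁` in equational form. -/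
theorem hasImpurity_stage_of_le [Algebra.FiniteType A B] (N : Type u) [AddCommGroup N]
    [Module B N] [Module.Finite B N] (p : Ideal A) [p.IsPrime]
    (N' : Type u) [AddCommGroup N'] [Module B' N'] [Module B N'] [IsScalarTower B B' N']
    [Module A' N'] [IsScalarTower A' B' N']
    (f : N →ₗ[B] N') (t' t : Ideal A') [t'.IsPrime] [t.IsPrime] (P : Ideal B') [P.IsPrime]
    (himp : FlatCA.IsImpurity A B N p A' B' N' f t' t P)
    (a : A₁)
    (ha : algebraMap A₁ (A₁ ⊗[A] B) a ∈ P.comap (sigma A₁ A' B') ⊔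
      (t.comap (algebraMap A₁ A')).map (algebraMap A₁ (A₁ ⊗[A] B)))
    (t₀ : Ideal A₁) [ht₀p : t₀.IsPrime] (ht₀ : t.comap (algebraMap A₁ A') ≤ t₀) (hat₀ : a ∉ t₀)
    (hp₀ : t₀.LiesOver p)
    (Q : ∀ (A'' : Type u) [CommRing A''] [Algebra A A''], Ideal A'' → Prop)
    (hQ : Q A₁ t₀) :
    FlatCA.HasImpurity A B N p Q := by
  have hat : algebraMap A₁ A' a ∉ t := fun h => hat₀ (ht₀ h)
  obtain ⟨hpush, hbc, hlt, himp'⟩ := (isImpurity_iff N p A' B' N' f t' t P).mp himp
  letI iB₁B' : Algebra (A₁ ⊗[A] B) B' := (sigma A₁ A' B').toRingHom.toAlgebra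
  letI iA₁B' : Algebra A₁ B' := ((algebraMap A' B').comp (algebraMap A₁ A')).toAlgebra
  have hσ : ∀ x, algebraMap (A₁ ⊗[A] B) B' x = sigma A₁ A' B' x := fun _ => rfl
  have s1 : IsScalarTower A₁ A' B' := .of_algebraMap_eq (fun x => rfl)
  have s2 : IsScalarTower A₁ (A₁ ⊗[A] B) B' := .of_algebraMap_eq (fun x => by
    rw [hσ, Algebra.TensorProduct.algebraMap_apply, Algebra.algebraMap_self, RingHom.id_apply,
      sigma_tmul, map_one, mul_one]; rfl)
  have s3 : IsScalarTower B (A₁ ⊗[A] B) B' := .of_algebraMap_eq (fun x => by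
    rw [hσ]
    change _ = sigma A₁ A' B' ((1 : A₁) ⊗ₜ[A] x)
    rw [sigma_tmul, map_one, map_one, one_mul])
  have s4 : IsScalarTower A (A₁ ⊗[A] B) B' := .of_algebraMap_eq (fun x => by
    rw [hσ, AlgHom.commutes])
  haveI hpush₁ : Algebra.IsPushout A₁ (A₁ ⊗[A] B) A' B' := by
    have h1 : Algebra.IsPushout A A' B B' := hpush.symm
    exact ((Algebra.IsPushout.comp_iff A A₁ B (A₁ ⊗[A] B)).mp h1).symm
  letI mB₁N' : Module (A₁ ⊗[A] B) N' := Module.compHom N' (algebraMap (A₁ ⊗[A] B) B')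
  have s5 : IsScalarTower (A₁ ⊗[A] B) B' N' := ⟨fun b b₂ n => by
    change (algebraMap (A₁ ⊗[A] B) B' b * b₂) • n = algebraMap (A₁ ⊗[A] B) B' b • (b₂ • n)
    rw [mul_smul]⟩
  have s6 : IsScalarTower B (A₁ ⊗[A] B) N' := ⟨fun b b' n => by
    rw [Algebra.smul_def, mul_smul]
    change algebraMap (A₁ ⊗[A] B) B' (algebraMap B (A₁ ⊗[A] B) b) • (b' • n) = _
    rw [← IsScalarTower.algebraMap_apply B (A₁ ⊗[A] B) B', algebraMap_smul B' b]⟩
  let f₀ : N →ₗ[B] (A₁ ⊗[A] B) ⊗[B] N := (TensorProduct.mk B (A₁ ⊗[A] B) N 1)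
  have hf₀ : IsBaseChange (A₁ ⊗[A] B) f₀ := TensorProduct.isBaseChange B N (A₁ ⊗[A] B)
  let f₁ : (A₁ ⊗[A] B) ⊗[B] N →ₗ[A₁ ⊗[A] B] N' := hf₀.lift f
  have hf₁ : (f₁.restrictScalars B).comp f₀ = f := hf₀.lift_comp f
  have hbc₁ : IsBaseChange B' f₁ := by
    apply IsBaseChange.of_comp hf₀
    rw [hf₁]
    exact hbc
  haveI : Algebra.FiniteType A₁ (A₁ ⊗[A] B) := inferInstance
  haveI : Module.Finite (A₁ ⊗[A] B) ((A₁ ⊗[A] B) ⊗[B] N) := inferInstance
  haveI ht₁' : (t'.under A₁).IsPrime := Ideal.comap_isPrime _ _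
  haveI ht₁ : (t.under A₁).IsPrime := Ideal.comap_isPrime _ _
  haveI hP₁ : (P.comap (algebraMap (A₁ ⊗[A] B) B')).IsPrime := Ideal.comap_isPrime _ _
  have hImp₁ := Imp.pushdown_of_closure (A₁ := A₁) (A₂ := A') (B₁ := A₁ ⊗[A] B) (B₂ := B')
    f₁ hbc₁ t' t P himp' (by
      intro Q₁ hQ₁ hle hlo
      have h1 : algebraMap A₁ (A₁ ⊗[A] B) a ∈ Q₁ := by
        refine (sup_le hle ?_) ha
        rw [Ideal.map_le_iff_le_comap]
        exact hlo.over.le
      have h2 : a ∈ t.under A₁ := by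
        rw [hlo.over]
        exact h1
      exact hat h2)
  have hImp₀ : Imp A₁ (A₁ ⊗[A] B) ((A₁ ⊗[A] B) ⊗[B] N) (t'.under A₁) t₀
      (P.comap (algebraMap (A₁ ⊗[A] B) B')) := by
    refine ⟨hImp₁.1.trans ht₀, hImp₁.2.1, hImp₁.2.2.1, ?_⟩
    intro Q₁ hQ₁ hle hlo
    have h1 : algebraMap A₁ (A₁ ⊗[A] B) a ∈ Q₁ := by
      refine (sup_le hle ?_) ha
      rw [Ideal.map_le_iff_le_comap]
      exact ht₀.trans hlo.over.le
    have h2 : a ∈ t₀ := by
      rw [hlo.over]
      exact h1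
    exact hat₀ h2
  refine ⟨A₁, A₁ ⊗[A] B, (A₁ ⊗[A] B) ⊗[B] N, inferInstance, inferInstance, inferInstance,
    inferInstance, inferInstance, inferInstance, inferInstance, inferInstance, inferInstance,
    inferInstance, inferInstance, inferInstance, inferInstance, inferInstance, f₀,
    t'.under A₁, t₀, ht₁', ht₀p, P.comap (algebraMap (A₁ ⊗[A] B) B'), hP₁, ?_, ?_⟩
  · exact (isImpurity_iff N p A₁ _ _ f₀ _ _ _).mpr ⟨inferInstance, hf₀, hp₀, hImp₀⟩
  · exact hQ

/-- An impurity over `A'` descends to an `A`-algebra `A₁` mapping to `A'` as soon as the closure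
condition holds at `A₁` in equational form (general extra condition `Q`). -/
theorem hasImpurity_stage_of [Algebra.FiniteType A B] (N : Type u) [AddCommGroup N] [Module B N]
    [Module.Finite B N] (p : Ideal A) [p.IsPrime]
    (N' : Type u) [AddCommGroup N'] [Module B' N'] [Module B N'] [IsScalarTower B B' N']
    [Module A' N'] [IsScalarTower A' B' N']
    (f : N →ₗ[B] N') (t' t : Ideal A') [t'.IsPrime] [t.IsPrime] (P : Ideal B') [P.IsPrime]
    (himp : FlatCA.IsImpurity A B N p A' B' N' f t' t P)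
    (a : A₁) (hat : algebraMap A₁ A' a ∉ t)
    (ha : algebraMap A₁ (A₁ ⊗[A] B) a ∈ P.comap (sigma A₁ A' B') ⊔
      (t.comap (algebraMap A₁ A')).map (algebraMap A₁ (A₁ ⊗[A] B)))
    (Q : ∀ (A'' : Type u) [CommRing A''] [Algebra A A''], Ideal A'' → Prop)
    (hQ : Q A₁ (t.comap (algebraMap A₁ A'))) :
    FlatCA.HasImpurity A B N p Q := by
  have hlt : t.LiesOver p := himp.2.2.2.1
  have hlt₁ : (t.comap (algebraMap A₁ A')).LiesOver p := by
    refine ⟨?_⟩
    rw [hlt.over]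
    ext x
    simp only [Ideal.under, Ideal.mem_comap]
    rw [IsScalarTower.algebraMap_apply A A₁ A']
  exact hasImpurity_stage_of_le A₁ A' B' N p N' f t' t P himp a ha
    (t.comap (algebraMap A₁ A')) le_rfl hat hlt₁ Q hQ

/-- An impurity over `A'` descends to an `A`-algebra `A₁` mapping to `A'` as soon as the closure
condition holds at `A₁` in equational form. -/
theorem hasImpurity_stage [Algebra.FiniteType A B] (N : Type u) [AddCommGroup N] [Module B N]
    [Module.Finite B N] (p : Ideal A) [p.IsPrime]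
    (N' : Type u) [AddCommGroup N'] [Module B' N'] [Module B N'] [IsScalarTower B B' N']
    [Module A' N'] [IsScalarTower A' B' N']
    (f : N →ₗ[B] N') (t' t : Ideal A') [t'.IsPrime] [t.IsPrime] (P : Ideal B') [P.IsPrime]
    (himp : FlatCA.IsImpurity A B N p A' B' N' f t' t P)
    (a : A₁) (hat : algebraMap A₁ A' a ∉ t)
    (ha : algebraMap A₁ (A₁ ⊗[A] B) a ∈ P.comap (sigma A₁ A' B') ⊔
      (t.comap (algebraMap A₁ A')).map (algebraMap A₁ (A₁ ⊗[A] B))) :
    FlatCA.HasImpurity A B N p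
      (fun A'' _ _ t'' => ∃ e : A'' ≃ₐ[A] A₁, t''.map e = t.comap (algebraMap A₁ A')) := by
  refine hasImpurity_stage_of A₁ A' B' N p N' f t' t P himp a hat ha _ ⟨AlgEquiv.refl, ?_⟩
  change Ideal.map (RingHom.id A₁) _ = _
  rw [Ideal.map_id]

end stage

section colim

variable {A B : Type u} [CommRing A] [CommRing B] [Algebra A B]
  {ι : Type u} [Preorder ι] (G : ι → Type u) [∀ i, CommRing (G i)] [∀ i, Algebra A (G i)]
  (g : ∀ i j, i ≤ j → G i →ₐ[A] G j)
  (A' : Type u) [CommRing A'] [Algebra A A'] [∀ i, Algebra (G i) A']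
  [∀ i, IsScalarTower A (G i) A']
  (B' : Type u) [CommRing B'] [Algebra B B'] [Algebra A' B'] [Algebra A B'] [IsScalarTower A B B']
  [IsScalarTower A A' B']

/-- The transition maps `G i ⊗[A] B → G j ⊗[A] B`. -/
def tau (i j : ι) (h : i ≤ j) : G i ⊗[A] B →ₐ[A] G j ⊗[A] B :=
  Algebra.TensorProduct.map (g i j h) (AlgHom.id A B)

lemma tau_tmul (i j : ι) (h : i ≤ j) (x : G i) (b : B) :
    tau (B := B) G g i j h (x ⊗ₜ[A] b) = (g i j h x) ⊗ₜ[A] b := by
  simp [tau]

variable {G g A'} in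
lemma sigma_tau
    (hcompat : ∀ i j (h : i ≤ j),
      (algebraMap (G j) A').comp (g i j h).toRingHom = algebraMap (G i) A')
    (i j : ι) (h : i ≤ j) (x : G i ⊗[A] B) :
    sigma (G j) A' B' (tau G g i j h x) = sigma (G i) A' B' x := by
  induction x using TensorProduct.induction_on with
  | zero => simp
  | tmul x b =>
    rw [tau_tmul, sigma_tmul, sigma_tmul]
    have := RingHom.congr_fun (hcompat i j h) x
    simp only [RingHom.comp_apply] at this
    erw [this]
  | add x y hx hy => rw [map_add, map_add, map_add, hx, hy]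

variable {G g A'} in
lemma tau_mem_map
    (hcompat : ∀ i j (h : i ≤ j),
      (algebraMap (G j) A').comp (g i j h).toRingHom = algebraMap (G i) A')
    (t : Ideal A') (i j : ι) (h : i ≤ j) (x : G i ⊗[A] B)
    (hx : x ∈ (t.comap (algebraMap (G i) A')).map (algebraMap (G i) (G i ⊗[A] B))) :
    tau G g i j h x ∈ (t.comap (algebraMap (G j) A')).map (algebraMap (G j) (G j ⊗[A] B)) := by
  have hle : (t.comap (algebraMap (G i) A')).map (algebraMap (G i) (G i ⊗[A] B)) ≤
      ((t.comap (algebraMap (G j) A')).map (algebraMap (G j) (G j ⊗[A] B))).comap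
        (tau (B := B) G g i j h).toRingHom := by
    rw [Ideal.map_le_iff_le_comap]
    intro c hc
    rw [Ideal.mem_comap, Ideal.mem_comap]
    have h1 : (tau (B := B) G g i j h).toRingHom (algebraMap (G i) (G i ⊗[A] B) c) =
        algebraMap (G j) (G j ⊗[A] B) (g i j h c) := by
      rw [Algebra.TensorProduct.algebraMap_apply, Algebra.TensorProduct.algebraMap_apply]
      exact tau_tmul G g i j h _ _
    rw [h1]
    apply Ideal.mem_map_of_mem
    rw [Ideal.mem_comap]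
    have := RingHom.congr_fun (hcompat i j h) c
    simp only [RingHom.comp_apply] at this
    erw [this]
    exact hc
  exact hle hx

variable {G g A'} in
lemma exists_sigma_eq [Algebra.IsPushout A B A' B']
    (hcolim : FlatCA.IsDirectedColimitRing G (fun i j h => (g i j h).toRingHom) A') (x : B') :
    ∃ i, ∃ y : G i ⊗[A] B, sigma (G i) A' B' y = x := by
  obtain ⟨hdir, ⟨i₀⟩, -, -, hcompat, hsurj, -⟩ := hcolim
  have hbc : IsBaseChange B (IsScalarTower.toAlgHom A A' B').toLinearMap :=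
    Algebra.IsPushout.out
  refine hbc.inductionOn x (fun x => ∃ i, ∃ y : G i ⊗[A] B, sigma (G i) A' B' y = x)
    ⟨i₀, 0, map_zero _⟩ ?_ ?_ ?_
  · intro a'
    obtain ⟨i, y, rfl⟩ := hsurj a'
    refine ⟨i, y ⊗ₜ[A] 1, ?_⟩
    rw [sigma_tmul, map_one, mul_one]
    rfl
  · rintro b _ ⟨i, y, rfl⟩
    refine ⟨i, ((1 : G i) ⊗ₜ[A] b) * y, ?_⟩
    rw [map_mul, sigma_tmul, map_one, map_one, one_mul, Algebra.smul_def]
  · rintro _ _ ⟨i, y, rfl⟩ ⟨j, z, rfl⟩
    obtain ⟨k, hik, hjk⟩ := hdir.directed i j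
    refine ⟨k, tau G g i k hik y + tau G g j k hjk z, ?_⟩
    rw [map_add, sigma_tau B' hcompat, sigma_tau B' hcompat]

variable {G g A'} in
/-- The equational closure condition descends to a stage of the directed colimit. -/
theorem exists_stage_closure [Algebra.IsPushout A B A' B']
    (hcolim : FlatCA.IsDirectedColimitRing G (fun i j h => (g i j h).toRingHom) A')
    (t : Ideal A') (P : Ideal B') (a : A') (hat : a ∉ t)
    (ha : algebraMap A' B' a ∈ P ⊔ t.map (algebraMap A' B')) :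
    ∃ i, ∃ aᵢ : G i, algebraMap (G i) A' aᵢ ∉ t ∧
      algebraMap (G i) (G i ⊗[A] B) aᵢ ∈ (P.comap (sigma (G i) A' B') : Ideal (G i ⊗[A] B)) ⊔
        (t.comap (algebraMap (G i) A')).map (algebraMap (G i) (G i ⊗[A] B)) := by
  have hcolim' := hcolim
  obtain ⟨hdir, ⟨i₀⟩, -, -, hcompat, hsurj, -⟩ := hcolim
  obtain ⟨x, hx, y, hy, hxy⟩ := Submodule.mem_sup.mp ha
  have key : ∀ y ∈ t.map (algebraMap A' B'), ∃ i, ∃ η : G i ⊗[A] B,
      η ∈ (t.comap (algebraMap (G i) A')).map (algebraMap (G i) (G i ⊗[A] B)) ∧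
        sigma (G i) A' B' η = y := by
    intro y hy
    refine Submodule.span_induction (p := fun y _ => ∃ i, ∃ η : G i ⊗[A] B,
      η ∈ (t.comap (algebraMap (G i) A')).map (algebraMap (G i) (G i ⊗[A] B)) ∧
        sigma (G i) A' B' η = y) ?_ ?_ ?_ ?_ hy
    · rintro _ ⟨c, hc, rfl⟩
      obtain ⟨i, cᵢ, rfl⟩ := hsurj c
      refine ⟨i, algebraMap (G i) (G i ⊗[A] B) cᵢ, Ideal.mem_map_of_mem _ hc, ?_⟩
      rw [Algebra.TensorProduct.algebraMap_apply, sigma_tmul, map_one, mul_one]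
      rfl
    · exact ⟨i₀, 0, Ideal.zero_mem _, map_zero _⟩
    · rintro _ _ _ _ ⟨i, y, hy, rfl⟩ ⟨j, z, hz, rfl⟩
      obtain ⟨k, hik, hjk⟩ := hdir.directed i j
      refine ⟨k, tau G g i k hik y + tau G g j k hjk z,
        Ideal.add_mem _ (tau_mem_map hcompat t i k hik y hy) (tau_mem_map hcompat t j k hjk z hz),
        ?_⟩
      rw [map_add, sigma_tau B' hcompat, sigma_tau B' hcompat]
    · rintro b _ _ ⟨i, y, hy, rfl⟩
      obtain ⟨j, β, rfl⟩ := exists_sigma_eq (B := B) B' hcolim' b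
      obtain ⟨k, hik, hjk⟩ := hdir.directed i j
      refine ⟨k, tau G g j k hjk β * tau G g i k hik y,
        Ideal.mul_mem_left _ _ (tau_mem_map hcompat t i k hik y hy), ?_⟩
      rw [map_mul, sigma_tau B' hcompat, sigma_tau B' hcompat, smul_eq_mul]
  obtain ⟨i, η, hη, rfl⟩ := key y hy
  obtain ⟨j, aⱼ, rfl⟩ := hsurj a
  obtain ⟨k, hik, hjk⟩ := hdir.directed i j
  have hak : algebraMap (G k) A' (g j k hjk aⱼ) = algebraMap (G j) A' aⱼ := by
    exact RingHom.congr_fun (hcompat j k hjk) aⱼ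
  refine ⟨k, g j k hjk aⱼ, ?_, ?_⟩
  · rw [hak]; exact hat
  · have hdecomp : algebraMap (G k) (G k ⊗[A] B) (g j k hjk aⱼ) =
        (algebraMap (G k) (G k ⊗[A] B) (g j k hjk aⱼ) - tau G g i k hik η) +
          tau G g i k hik η := by ring
    rw [hdecomp]
    refine Ideal.add_mem _ (Ideal.mem_sup_left ?_)
      (Ideal.mem_sup_right (tau_mem_map hcompat t i k hik η hη))
    rw [Ideal.mem_comap, map_sub, sigma_tau B' hcompat, Algebra.TensorProduct.algebraMap_apply,
      sigma_tmul, map_one, mul_one]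
    change algebraMap A' B' (algebraMap (G k) A' (g j k hjk aⱼ)) - _ ∈ P
    rw [hak, ← hxy, add_sub_cancel_right]
    exact hx

end colim

end Groth.Agent.Lib.Helper14.Impurity
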