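import Mathlib
import Groth.Prelude.Def_FlatCA
import Groth.Prelude.Def_Hensel
import Groth.Agent.Lib.Helper14.Impurity.Stage
import Groth.Agent.Lib.Helper8.Hzl.AtPrime

/-!
# Impurities over the henselization and over elementary étale neighbourhoods (helper14)
-/

set_option autoImplicit false
set_option linter.style.haveILetI false
universe u

open TensorProduct IsLocalRing CategoryTheory

namespace Groth.Agent.Lib.Helper14.Impurity

attribute [local instance] Algebra.TensorProduct.rightAlgebra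

section family

variable {A B : Type u} [CommRing A] [CommRing B] [Algebra A B]
  (A₁ A₂ : Type u) [CommRing A₁] [Algebra A A₁] [CommRing A₂] [Algebra A A₂]
  (A' B' : Type u) [CommRing A'] [CommRing B'] [Algebra A A'] [Algebra B B'] [Algebra A' B']
  [Algebra A B'] [IsScalarTower A B B'] [IsScalarTower A A' B'] [Algebra A₁ A']
  [IsScalarTower A A₁ A'] [Algebra A₂ A'] [IsScalarTower A A₂ A']

/-- The map `A₁ ⊗[A] B → A₂ ⊗[A] B` induced by `φ : A₁ → A₂`. -/
def tauHom (φ : A₁ →ₐ[A] A₂) : A₁ ⊗[A] B →ₐ[A] A₂ ⊗[A] B :=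
  Algebra.TensorProduct.map φ (AlgHom.id A B)

variable {A₁ A₂}

lemma tauHom_tmul (φ : A₁ →ₐ[A] A₂) (x : A₁) (b : B) :
    tauHom (B := B) A₁ A₂ φ (x ⊗ₜ[A] b) = (φ x) ⊗ₜ[A] b := by
  simp [tauHom]

lemma sigma_tauHom (φ : A₁ →ₐ[A] A₂) (hφ : ∀ x, algebraMap A₂ A' (φ x) = algebraMap A₁ A' x)
    (x : A₁ ⊗[A] B) :
    sigma A₂ A' B' (tauHom A₁ A₂ φ x) = sigma A₁ A' B' x := by
  induction x using TensorProduct.induction_on with
  | zero => simp
  | tmul x b => rw [tauHom_tmul, sigma_tmul, sigma_tmul, hφ]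
  | add x y hx hy => rw [map_add, map_add, map_add, hx, hy]

lemma tauHom_mem_map (φ : A₁ →ₐ[A] A₂)
    (hφ : ∀ x, algebraMap A₂ A' (φ x) = algebraMap A₁ A' x)
    (t : Ideal A') (x : A₁ ⊗[A] B)
    (hx : x ∈ (t.comap (algebraMap A₁ A')).map (algebraMap A₁ (A₁ ⊗[A] B))) :
    tauHom A₁ A₂ φ x ∈ (t.comap (algebraMap A₂ A')).map (algebraMap A₂ (A₂ ⊗[A] B)) := by
  have hle : (t.comap (algebraMap A₁ A')).map (algebraMap A₁ (A₁ ⊗[A] B)) ≤
      ((t.comap (algebraMap A₂ A')).map (algebraMap A₂ (A₂ ⊗[A] B))).comap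
        (tauHom (B := B) A₁ A₂ φ).toRingHom := by
    rw [Ideal.map_le_iff_le_comap]
    intro c hc
    rw [Ideal.mem_comap, Ideal.mem_comap]
    have h1 : (tauHom (B := B) A₁ A₂ φ).toRingHom (algebraMap A₁ (A₁ ⊗[A] B) c) =
        algebraMap A₂ (A₂ ⊗[A] B) (φ c) := by
      rw [Algebra.TensorProduct.algebraMap_apply, Algebra.TensorProduct.algebraMap_apply]
      exact tauHom_tmul φ _ _
    rw [h1]
    apply Ideal.mem_map_of_mem
    rw [Ideal.mem_comap, hφ]
    exact hc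
  exact hle hx

end family

section familyColim

variable {A B : Type u} [CommRing A] [CommRing B] [Algebra A B]
  {ι : Type*} (G : ι → Type u) [∀ i, CommRing (G i)] [∀ i, Algebra A (G i)]
  (A' : Type u) [CommRing A'] [Algebra A A'] [∀ i, Algebra (G i) A']
  [∀ i, IsScalarTower A (G i) A']
  (B' : Type u) [CommRing B'] [Algebra B B'] [Algebra A' B'] [Algebra A B'] [IsScalarTower A B B']
  [IsScalarTower A A' B']

variable {G A'} in
lemma exists_sigma_eq_of_family [Algebra.IsPushout A B A' B'] [Nonempty ι]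
    (hdir : ∀ i j, ∃ k, ∃ (φ : G i →ₐ[A] G k) (ψ : G j →ₐ[A] G k),
      (∀ x, algebraMap (G k) A' (φ x) = algebraMap (G i) A' x) ∧
        (∀ y, algebraMap (G k) A' (ψ y) = algebraMap (G j) A' y))
    (hsurj : ∀ a : A', ∃ i, ∃ x : G i, algebraMap (G i) A' x = a) (x : B') :
    ∃ i, ∃ y : G i ⊗[A] B, sigma (G i) A' B' y = x := by
  obtain ⟨i₀⟩ := ‹Nonempty ι›
  have hbc : IsBaseChange B (IsScalarTower.toAlgHom A A' B').toLinearMap :=
    Algebra.IsPushout.out
  refine hbc.inductionOn x (fun x => ∃ i, ∃ y : G i ⊗[A] B, sigma (G i) A' B' y = x)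
    ⟨i₀, 0, map_zero _⟩ ?_ ?_ ?_
  · intro a'
    obtain ⟨i, y, rfl⟩ := hsurj a'
    refine ⟨i, y ⊗ₜ[A] 1, ?_⟩
    rw [sigma_tmul, map_one, mul_one]
    rfl
  · rintro b _ ⟨i, y, rfl⟩
    refine ⟨i, ((1 : G i) ⊗ₜ[A] b) * y, ?_⟩
    rw [map_mul, sigma_tmul, map_one, map_one, one_mul, Algebra.smul_def]
  · rintro _ _ ⟨i, y, rfl⟩ ⟨j, z, rfl⟩
    obtain ⟨k, φ, ψ, hφ, hψ⟩ := hdir i j
    refine ⟨k, tauHom _ _ φ y + tauHom _ _ ψ z, ?_⟩
    rw [map_add, sigma_tauHom A' B' φ hφ, sigma_tauHom A' B' ψ hψ]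

variable {G A'} in
/-- The equational closure condition descends to a member of a directed family of `A`-algebras
jointly surjecting onto `A'`. -/
theorem exists_stage_closure_of_family [Algebra.IsPushout A B A' B'] [Nonempty ι]
    (hdir : ∀ i j, ∃ k, ∃ (φ : G i →ₐ[A] G k) (ψ : G j →ₐ[A] G k),
      (∀ x, algebraMap (G k) A' (φ x) = algebraMap (G i) A' x) ∧
        (∀ y, algebraMap (G k) A' (ψ y) = algebraMap (G j) A' y))
    (hsurj : ∀ a : A', ∃ i, ∃ x : G i, algebraMap (G i) A' x = a)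
    (t : Ideal A') (P : Ideal B') (a : A') (hat : a ∉ t)
    (ha : algebraMap A' B' a ∈ P ⊔ t.map (algebraMap A' B')) :
    ∃ i, ∃ aᵢ : G i, algebraMap (G i) A' aᵢ ∉ t ∧
      algebraMap (G i) (G i ⊗[A] B) aᵢ ∈ (P.comap (sigma (G i) A' B') : Ideal (G i ⊗[A] B)) ⊔
        (t.comap (algebraMap (G i) A')).map (algebraMap (G i) (G i ⊗[A] B)) := by
  obtain ⟨i₀⟩ := id ‹Nonempty ι›
  obtain ⟨x, hx, y, hy, hxy⟩ := Submodule.mem_sup.mp ha
  have key : ∀ y ∈ t.map (algebraMap A' B'), ∃ i, ∃ η : G i ⊗[A] B,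
      η ∈ (t.comap (algebraMap (G i) A')).map (algebraMap (G i) (G i ⊗[A] B)) ∧
        sigma (G i) A' B' η = y := by
    intro y hy
    refine Submodule.span_induction (p := fun y _ => ∃ i, ∃ η : G i ⊗[A] B,
      η ∈ (t.comap (algebraMap (G i) A')).map (algebraMap (G i) (G i ⊗[A] B)) ∧
        sigma (G i) A' B' η = y) ?_ ?_ ?_ ?_ hy
    · rintro _ ⟨c, hc, rfl⟩
      obtain ⟨i, cᵢ, rfl⟩ := hsurj c
      refine ⟨i, algebraMap (G i) (G i ⊗[A] B) cᵢ, Ideal.mem_map_of_mem _ hc, ?_⟩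
      rw [Algebra.TensorProduct.algebraMap_apply, sigma_tmul, map_one, mul_one]
      rfl
    · exact ⟨i₀, 0, Ideal.zero_mem _, map_zero _⟩
    · rintro _ _ _ _ ⟨i, y, hy, rfl⟩ ⟨j, z, hz, rfl⟩
      obtain ⟨k, φ, ψ, hφ, hψ⟩ := hdir i j
      refine ⟨k, tauHom _ _ φ y + tauHom _ _ ψ z,
        Ideal.add_mem _ (tauHom_mem_map A' φ hφ t y hy) (tauHom_mem_map A' ψ hψ t z hz), ?_⟩
      rw [map_add, sigma_tauHom A' B' φ hφ, sigma_tauHom A' B' ψ hψ]
    · rintro b _ _ ⟨i, y, hy, rfl⟩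
      obtain ⟨j, β, rfl⟩ := exists_sigma_eq_of_family (B := B) B' hdir hsurj b
      obtain ⟨k, φ, ψ, hφ, hψ⟩ := hdir i j
      refine ⟨k, tauHom _ _ ψ β * tauHom _ _ φ y,
        Ideal.mul_mem_left _ _ (tauHom_mem_map A' φ hφ t y hy), ?_⟩
      rw [map_mul, sigma_tauHom A' B' φ hφ, sigma_tauHom A' B' ψ hψ, smul_eq_mul]
  obtain ⟨i, η, hη, rfl⟩ := key y hy
  obtain ⟨j, aⱼ, rfl⟩ := hsurj a
  obtain ⟨k, φ, ψ, hφ, hψ⟩ := hdir i j
  refine ⟨k, ψ aⱼ, ?_, ?_⟩
  · rw [hψ]; exact hat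
  · have hdecomp : algebraMap (G k) (G k ⊗[A] B) (ψ aⱼ) =
        (algebraMap (G k) (G k ⊗[A] B) (ψ aⱼ) - tauHom _ _ φ η) + tauHom _ _ φ η := by ring
    rw [hdecomp]
    refine Ideal.add_mem _ (Ideal.mem_sup_left ?_)
      (Ideal.mem_sup_right (tauHom_mem_map A' φ hφ t η hη))
    rw [Ideal.mem_comap, map_sub, sigma_tauHom A' B' φ hφ,
      Algebra.TensorProduct.algebraMap_apply, sigma_tmul, map_one, mul_one]
    change algebraMap A' B' (algebraMap (G k) A' (ψ aⱼ)) - _ ∈ P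
    rw [hψ, ← hxy, add_sub_cancel_right]
    exact hx

end familyColim

section resField

/-- If the prime `q` of the `A`-algebra `E` over `p` is the kernel of an `A`-algebra map from
`E` to `κ(p)`, then `κ(p) → κ(q)` is bijective. -/
lemma bijective_mapₐ_of_char {A E : Type u} [CommRing A] [CommRing E] [Algebra A E]
    (p : Ideal A) [p.IsPrime] (q : Ideal E) [q.IsPrime] (h : q.LiesOver p)
    (χ : E →ₐ[A] p.ResidueField) (hχ : ∀ e, χ e = 0 ↔ e ∈ q) :
    Function.Bijective (Ideal.ResidueField.mapₐ p q (Algebra.ofId A E) h.over) := by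
  let ψ : q.ResidueField →+* p.ResidueField :=
    Ideal.ResidueField.lift q χ.toRingHom (fun e he => (hχ e).mpr he)
      (fun e he => IsUnit.mk0 _ (mt (hχ e).mp he))
  have hψ : ∀ e, ψ (algebraMap E q.ResidueField e) = χ e := fun e =>
    Ideal.ResidueField.lift_algebraMap _ _ _ _ e
  have hcomp : ψ.comp (Ideal.ResidueField.mapₐ p q (Algebra.ofId A E) h.over).toRingHom =
      RingHom.id _ := by
    apply Ideal.ResidueField.ringHom_ext
    ext a
    simp only [RingHom.comp_apply, RingHom.id_apply, AlgHom.toRingHom_eq_coe, RingHom.coe_coe]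
    rw [Ideal.ResidueField.mapₐ_apply, Ideal.ResidueField.map_algebraMap]
    change ψ (algebraMap E q.ResidueField (algebraMap A E a)) = _
    rw [hψ, AlgHom.commutes]
  refine ⟨RingHom.injective _, fun y => ⟨ψ y, ?_⟩⟩
  apply ψ.injective
  exact DFunLike.congr_fun hcomp (ψ y)

end resField

end Groth.Agent.Lib.Helper14.Impurity

namespace Groth.Agent.Lib.Helper14.Impurity

open Groth.Agent.Lib.Helper8 Groth.Agent.Lib.Helper8.Hzl

attribute [local instance] Algebra.TensorProduct.rightAlgebra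

/-- Transport of an impurity along an isomorphism of base rings. -/
theorem exists_impurity_of_algEquiv
    {A B : Type u} [CommRing A] [CommRing B] [Algebra A B] [Algebra.FiniteType A B]
    (N : Type u) [AddCommGroup N] [Module B N] [Module.Finite B N] (p : Ideal A) [p.IsPrime]
    (A₁ B₁ N₁ : Type u) [CommRing A₁] [CommRing B₁] [Algebra A A₁] [Algebra B B₁]
    [Algebra A₁ B₁] [Algebra A B₁] [IsScalarTower A B B₁] [IsScalarTower A A₁ B₁]
    [AddCommGroup N₁] [Module B₁ N₁] [Module B N₁] [IsScalarTower B B₁ N₁] [Module A₁ N₁]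
    [IsScalarTower A₁ B₁ N₁] (f₁ : N →ₗ[B] N₁) (t' t : Ideal A₁) [t'.IsPrime] [t.IsPrime]
    (P : Ideal B₁) [P.IsPrime]
    (himp : FlatCA.IsImpurity A B N p A₁ B₁ N₁ f₁ t' t P)
    (A₂ : Type u) [CommRing A₂] [Algebra A A₂] (e : A₁ ≃ₐ[A] A₂) :
    ∃ (B₂ N₂ : Type u) (_ : CommRing B₂) (_ : Algebra B B₂) (_ : Algebra A₂ B₂) (_ : Algebra A B₂)
      (_ : IsScalarTower A B B₂) (_ : IsScalarTower A A₂ B₂) (_ : AddCommGroup N₂)
      (_ : Module B₂ N₂) (_ : Module B N₂) (_ : IsScalarTower B B₂ N₂) (_ : Module A₂ N₂)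
      (_ : IsScalarTower A₂ B₂ N₂) (g : N →ₗ[B] N₂) (P₂ : Ideal B₂) (_ : P₂.IsPrime),
      FlatCA.IsImpurity A B N p A₂ B₂ N₂ g (t'.comap (e.symm : A₂ →+* A₁))
        (t.comap (e.symm : A₂ →+* A₁)) P₂ := by
  letI : Algebra A₁ A₂ := (e : A₁ →+* A₂).toAlgebra
  have htow : IsScalarTower A A₁ A₂ := .of_algebraMap_eq (fun a => (e.commutes a).symm)
  have hover : ∀ (I : Ideal A₁), (I.comap (e.symm : A₂ →+* A₁)).LiesOver I := fun I => ⟨by
    ext x
    simp only [Ideal.under, Ideal.mem_comap]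
    change _ ↔ e.symm (e x) ∈ I
    rw [AlgEquiv.symm_apply_apply]⟩
  haveI := hover t'
  haveI := hover t
  have hle : t'.comap (e.symm : A₂ →+* A₁) ≤ t.comap (e.symm : A₂ →+* A₁) :=
    Ideal.comap_mono himp.2.2.1
  exact exists_impurity_baseChange N p A₁ B₁ N₁ f₁ t' t P himp A₂ _ _ hle

/-- An impurity over the henselization of `A_p` at the closed point descends to an elementary
étale neighbourhood of `(A, p)`. -/
theorem hasImpurity_etaleNhd_of_henselization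
    {A B : Type u} [CommRing A] [CommRing B] [Algebra A B] [Algebra.FiniteType A B]
    (N : Type u) [AddCommGroup N] [Module B N] [Module.Finite B N] (p : Ideal A) [p.IsPrime]
    (h : FlatCA.HasImpurity A B N p (fun A' _ _ t => ∃ (_ : IsLocalRing A')
        (_ : Algebra (Localization.AtPrime p) A')
        (_ : IsScalarTower A (Localization.AtPrime p) A')
        (_ : IsLocalHom (algebraMap (Localization.AtPrime p) A')),
        Hensel.IsHenselization (Localization.AtPrime p) A' ∧ t = maximalIdeal A')) :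
    FlatCA.HasImpurity A B N p (fun A' _ _ t => ∃ _ : t.IsPrime, FlatCA.IsEtaleNhd A A' p t) := by
  obtain ⟨A', B', N', _, _, _, _, _, _, _, _, _, _, _, _, _, _, f, t', t, _, _, P, _, himp,
    _, _, _, _, hhens, htmax⟩ := h
  haveI := AtPrime.isHenselization A p
  obtain ⟨e₀⟩ := nonempty_algEquiv_of_isHenselization (Localization.AtPrime p) A' (AtPrime.H A p)
  let e : A' ≃ₐ[A] AtPrime.H A p := e₀.restrictScalars A
  obtain ⟨B₂, N₂, _, _, _, _, _, _, _, _, _, _, _, _, g, P₂, _, himp₂⟩ :=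
    exists_impurity_of_algEquiv N p A' B' N' f t' t P himp (AtPrime.H A p) e
  have hs : t.comap (e.symm : AtPrime.H A p →+* A') = maximalIdeal (AtPrime.H A p) := by
    ext x
    rw [Ideal.mem_comap, htmax, mem_maximalIdeal, mem_maximalIdeal, mem_nonunits_iff,
      mem_nonunits_iff]
    exact not_congr (isUnit_map_iff e.symm x)
  set s' := t'.comap (e.symm : AtPrime.H A p →+* A') with hs'def
  set s := t.comap (e.symm : AtPrime.H A p →+* A') with hsdef
  have himp₂' := himp₂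
  obtain ⟨hpush, -, -, -, -, -, hcl⟩ := himp₂
  obtain ⟨a, hat, ha⟩ := exists_not_mem_mem_sup s P₂ hcl
  letI : ∀ i : Nbhd A p.ResidueField, Algebra i.idx.E (AtPrime.H A p) :=
    fun i => (Nbhd.toHz i).toRingHom.toAlgebra
  have htow : ∀ i : Nbhd A p.ResidueField, IsScalarTower A i.idx.E (AtPrime.H A p) :=
    fun i => .of_algebraMap_eq (fun a => ((Nbhd.toHz i).commutes a).symm)
  have hdir : ∀ i j : Nbhd A p.ResidueField, ∃ k : Nbhd A p.ResidueField, ∃ (φ : i.idx.E →ₐ[A] k.idx.E)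
      (ψ : j.idx.E →ₐ[A] k.idx.E),
      (∀ x, algebraMap k.idx.E (AtPrime.H A p) (φ x) = algebraMap i.idx.E (AtPrime.H A p) x) ∧
        (∀ y, algebraMap k.idx.E (AtPrime.H A p) (ψ y) =
          algebraMap j.idx.E (AtPrime.H A p) y) := by
    intro i j
    obtain ⟨k, φ, ψ, -⟩ := IsFilteredOrEmpty.cocone_objs i j
    exact ⟨k, φ.toAlgHom, ψ.toAlgHom, fun x => Nbhd.toHz_comp φ x, fun y => Nbhd.toHz_comp ψ y⟩
  have hsurj : ∀ a : AtPrime.H A p, ∃ i : Nbhd A p.ResidueField, ∃ x : i.idx.E,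
      algebraMap i.idx.E (AtPrime.H A p) x = a := by
    intro a
    obtain ⟨k, z, hz⟩ := Nbhd.toHz_surj a
    exact ⟨k, z, hz.symm⟩
  obtain ⟨i, aᵢ, hati, hai⟩ := exists_stage_closure_of_family (B := B)
    (G := fun i : Nbhd A p.ResidueField => i.idx.E) B₂ hdir hsurj s P₂ a hat ha
  refine hasImpurity_stage_of i.idx.E (AtPrime.H A p) B₂ N p N₂ g s' s P₂ himp₂' aᵢ hati hai _ ?_
  have hq : s.comap (algebraMap i.idx.E (AtPrime.H A p)) = i.idx.q := by
    ext x
    rw [Ideal.mem_comap, hs, Hzl.mem_maximalIdeal_iff]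
    change χS A p.ResidueField (Nbhd.toHz i x) = 0 ↔ _
    rw [Nbhd.χS_toHz, Idx.mem_q]
  rw [hq]
  have hlo : i.idx.q.LiesOver p := ⟨(AtPrime.Idx.under_q A p i.idx).symm⟩
  exact ⟨inferInstance, inferInstance, hlo,
    bijective_mapₐ_of_char p i.idx.q hlo i.idx.χ (fun x => i.idx.mem_q.symm)⟩

end Groth.Agent.Lib.Helper14.Impurity
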