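import Mathlib
import Groth.Prelude.Def_FlatCA
import Groth.Agent.Lib.Helper14.Impurity.Stage
import Groth.Agent.Lib.Helper14.Impurity.Hens

/-!
# Impurities with finitely presented base ring and closed point of the fibre (helper14)
-/

set_option autoImplicit false
set_option linter.style.haveILetI false
universe u

open TensorProduct

namespace Groth.Agent.Lib.Helper14.Impurity

attribute [local instance] Algebra.TensorProduct.rightAlgebra

/-- A prime of a finite type algebra over `p`, not containing `a`, specialises within the fibre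
over `p` to a closed point of the fibre not containing `a`. -/
lemma exists_closed_point_fibre {A A₁ : Type u} [CommRing A] [CommRing A₁] [Algebra A A₁]
    [Algebra.FiniteType A A₁] (p : Ideal A) [p.IsPrime] (t₁ : Ideal A₁) [t₁.IsPrime]
    [t₁.LiesOver p] (a : A₁) (ha : a ∉ t₁) :
    ∃ t₀ : Ideal A₁, t₀.IsPrime ∧ t₁ ≤ t₀ ∧ a ∉ t₀ ∧ t₀.LiesOver p ∧
      (FlatCA.fiberIdeal p t₀).IsMaximal := by
  obtain ⟨hI, hIc⟩ := fiberIdeal_isPrime_and_comap p t₁
  have hā : iota (S := A₁) p a ∉ FlatCA.fiberIdeal p t₁ := by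
    intro h
    apply ha
    rw [← hIc]
    exact h
  haveI : Algebra.FiniteType p.ResidueField (p.Fiber A₁) :=
    inferInstanceAs (Algebra.FiniteType p.ResidueField (p.ResidueField ⊗[A] A₁))
  haveI : IsJacobsonRing (p.Fiber A₁) := isJacobsonRing_of_finiteType (A := p.ResidueField)
  have hjac : (FlatCA.fiberIdeal p t₁).jacobson = FlatCA.fiberIdeal p t₁ :=
    IsJacobsonRing.out inferInstance hI.isRadical
  have hex : ∃ M : Ideal (p.Fiber A₁), FlatCA.fiberIdeal p t₁ ≤ M ∧ M.IsMaximal ∧
      iota (S := A₁) p a ∉ M := by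
    by_contra hne
    push_neg at hne
    apply hā
    rw [← hjac, Ideal.jacobson, Ideal.mem_sInf]
    rintro M ⟨hIM, hM⟩
    exact hne M hIM hM
  obtain ⟨M, hIM, hM, haM⟩ := hex
  haveI := hM.isPrime
  refine ⟨M.comap (iota (S := A₁) p), Ideal.comap_isPrime _ _, ?_, haM,
    comap_iota_liesOver p M, ?_⟩
  · rw [← hIc]
    exact Ideal.comap_mono hIM
  · rw [fiberIdeal_comap]
    exact hM

/-- If there is an impurity above `p`, there is one with finitely presented base ring and point
`t` closed in the fibre over `p`. -/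
theorem hasImpurity_finitePresentation_closed
    {A B : Type u} [CommRing A] [CommRing B] [Algebra A B] [Algebra.FiniteType A B]
    (N : Type u) [AddCommGroup N] [Module B N] [Module.Finite B N] (p : Ideal A) [p.IsPrime]
    (h : FlatCA.HasImpurity A B N p (fun _ _ _ _ => True)) :
    FlatCA.HasImpurity A B N p (fun A' _ _ t => Algebra.FinitePresentation A A' ∧
      (FlatCA.fiberIdeal p t).IsMaximal) := by
  classical
  obtain ⟨A', B', N', _, _, _, _, _, _, _, _, _, _, _, _, _, _, f, t', t, _, _, P, _, himp,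
    -⟩ := h
  have himp₀ := himp
  obtain ⟨hpush, -, -, hlt, -, -, hcl⟩ := himp
  obtain ⟨a, hat, ha⟩ := exists_not_mem_mem_sup t P hcl
  letI : ∀ S : Finset A', Algebra (MvPolynomial S A) A' :=
    fun S => (MvPolynomial.aeval (fun s : S => (s : A'))).toRingHom.toAlgebra
  have halg : ∀ (S : Finset A') (x : MvPolynomial S A),
      algebraMap (MvPolynomial S A) A' x = MvPolynomial.aeval (fun s : S => (s : A')) x :=
    fun S x => rfl
  have htow : ∀ S : Finset A', IsScalarTower A (MvPolynomial S A) A' :=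
    fun S => .of_algebraMap_eq (fun a => by
      rw [halg, MvPolynomial.algebraMap_eq, MvPolynomial.aeval_C])
  have hdir : ∀ S T : Finset A', ∃ U : Finset A', ∃ (φ : MvPolynomial S A →ₐ[A] MvPolynomial U A)
      (ψ : MvPolynomial T A →ₐ[A] MvPolynomial U A),
      (∀ x, algebraMap (MvPolynomial U A) A' (φ x) = algebraMap (MvPolynomial S A) A' x) ∧
        (∀ y, algebraMap (MvPolynomial U A) A' (ψ y) = algebraMap (MvPolynomial T A) A' y) := by
    intro S T
    refine ⟨S ∪ T,
      MvPolynomial.rename (fun s : S => (⟨s.1, Finset.mem_union_left T s.2⟩ : ↥(S ∪ T))),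
      MvPolynomial.rename (fun s : T => (⟨s.1, Finset.mem_union_right S s.2⟩ : ↥(S ∪ T))),
      fun x => ?_, fun y => ?_⟩
    · rw [halg, halg, MvPolynomial.aeval_rename]
      rfl
    · rw [halg, halg, MvPolynomial.aeval_rename]
      rfl
  have hsurj : ∀ a : A', ∃ S : Finset A', ∃ x : MvPolynomial S A,
      algebraMap (MvPolynomial S A) A' x = a := by
    intro a
    refine ⟨{a}, MvPolynomial.X ⟨a, Finset.mem_singleton_self a⟩, ?_⟩
    rw [halg, MvPolynomial.aeval_X]
  obtain ⟨S, aS, hatS, haS⟩ := exists_stage_closure_of_family (B := B)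
    (G := fun S : Finset A' => MvPolynomial S A) B' hdir hsurj t P a hat ha
  haveI hlt₁ : (t.comap (algebraMap (MvPolynomial S A) A')).LiesOver p := by
    refine ⟨?_⟩
    rw [hlt.over]
    ext x
    simp only [Ideal.under, Ideal.mem_comap]
    rw [IsScalarTower.algebraMap_apply A (MvPolynomial S A) A']
  obtain ⟨t₀, ht₀p, ht₀, hat₀, hp₀, hmax⟩ := exists_closed_point_fibre p
    (t.comap (algebraMap (MvPolynomial S A) A')) aS hatS
  exact hasImpurity_stage_of_le (MvPolynomial S A) A' B' N p N' f t' t P himp₀ aS haS t₀ ht₀ hat₀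
    hp₀ _ ⟨inferInstance, hmax⟩

end Groth.Agent.Lib.Helper14.Impurity
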