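import Mathlib
import Groth.Prelude.Def_FlatCA
import Groth.Prelude.Def_Hensel
import Groth.Agent.Lib.Helper14.Impurity.FinSupp
import Groth.Agent.Lib.Helper14.Impurity.Hens
import Groth.Agent.Lib.Helper8.HenselSplit
import Groth.Agent.Lib.Helper8.Hzl.AtPrime
import Groth.Agent.Lib.Helper8.Hzl.Flat

/-!
# Purity with finite fibre supports forces a finite scheme-theoretic support (helper14)
-/

set_option autoImplicit false
set_option linter.style.haveILetI false
universe u

open TensorProduct IsLocalRing
open Groth.Agent.Lib.Helper8 Groth.Agent.Lib.Helper8.Hzl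

namespace Groth.Agent.Lib.Helper14.Impurity

attribute [local instance] Algebra.TensorProduct.rightAlgebra


lemma maximalIdeal_H_liesOver {A : Type u} [CommRing A] (p : Ideal A) [p.IsPrime] :
    (maximalIdeal (AtPrime.H A p)).LiesOver p := by
  refine ⟨?_⟩
  ext x
  simp only [Ideal.under, Ideal.mem_comap]
  rw [Hzl.mem_maximalIdeal_iff, AlgHom.commutes, Ideal.algebraMap_residueField_eq_zero]

/-- If `N` is pure along `p` and the scheme-theoretic support is quasi-finite over `A`, then its
base change to the henselization at `p` is finite. -/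
theorem finite_henselization_of_pureAlong {A B : Type u} [CommRing A] [CommRing B] [Algebra A B]
    [Algebra.FiniteType A B] (N : Type u) [AddCommGroup N] [Module B N] [Module.Finite B N]
    [Algebra.QuasiFinite A (B ⧸ Module.annihilator B N)] (p : Ideal A) [p.IsPrime]
    (hpure : FlatCA.IsPureAlong A B N p) :
    Module.Finite (AtPrime.H A p) ((AtPrime.H A p) ⊗[A] (B ⧸ Module.annihilator B N)) := by
  obtain ⟨e, he, hfin, hq⟩ := exists_idempotent_finite_of_finiteType (AtPrime.H A p)
    ((AtPrime.H A p) ⊗[A] (B ⧸ Module.annihilator B N))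
  by_cases he1 : e = 1
  · have key : ∀ I : Ideal ((AtPrime.H A p) ⊗[A] (B ⧸ Module.annihilator B N)), I = ⊥ →
        Module.Finite (AtPrime.H A p) (((AtPrime.H A p) ⊗[A] (B ⧸ Module.annihilator B N)) ⧸ I) →
        Module.Finite (AtPrime.H A p) ((AtPrime.H A p) ⊗[A] (B ⧸ Module.annihilator B N)) := by
      rintro _ rfl h
      exact Module.Finite.equiv (AlgEquiv.quotientBot (AtPrime.H A p) _).toLinearEquiv
    refine key _ ?_ hfin
    rw [he1, sub_self, Ideal.span_singleton_eq_bot]
  · exfalso
    obtain ⟨t', ht', P, hP, himp⟩ := exists_imp_of_idempotent A B N (AtPrime.H A p) e he he1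
      (fun q _ hqo => hq q hqo inferInstance)
    haveI := maximalIdeal_H_liesOver p
    have h5 : FlatCA.HasImpurity A B N p (fun A' _ _ t => ∃ (_ : IsLocalRing A')
        (_ : Algebra (Localization.AtPrime p) A')
        (_ : IsScalarTower A (Localization.AtPrime p) A')
        (_ : IsLocalHom (algebraMap (Localization.AtPrime p) A')),
        Hensel.IsHenselization (Localization.AtPrime p) A' ∧ t = maximalIdeal A') :=
      ⟨AtPrime.H A p, (AtPrime.H A p) ⊗[A] B, ((AtPrime.H A p) ⊗[A] B) ⊗[B] N,
        inferInstance, inferInstance, inferInstance, inferInstance,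
        inferInstance, inferInstance, inferInstance, inferInstance, inferInstance, inferInstance,
        inferInstance, inferInstance, inferInstance, inferInstance,
        TensorProduct.mk B ((AtPrime.H A p) ⊗[A] B) N 1, t', maximalIdeal (AtPrime.H A p), ht',
        inferInstance, P, hP,
        (isImpurity_iff N p _ _ _ _ _ _ _).mpr ⟨inferInstance,
          TensorProduct.isBaseChange B N ((AtPrime.H A p) ⊗[A] B), inferInstance, himp⟩,
        inferInstance, inferInstance, inferInstance, inferInstance, AtPrime.isHenselization A p, rfl⟩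
    obtain ⟨A₄, B₄, N₄, _, _, _, _, _, _, _, _, _, _, _, _, _, _, g₄, t₄', t₄, _, _, P₄, _, himp₄,
      _, het⟩ := hasImpurity_etaleNhd_of_henselization N p h5
    exact hpure A₄ B₄ N₄ g₄ t₄' t₄ P₄ het himp₄



/-- Finiteness over the henselization at `p` descends to integrality up to a multiplier outside `p`. -/
theorem exists_notMem_isIntegral_smul {A : Type u} [CommRing A] (C : Type u) [CommRing C]
    [Algebra A C] (p : Ideal A) [p.IsPrime]
    [hfinH : Module.Finite (AtPrime.H A p) ((AtPrime.H A p) ⊗[A] C)] (c : C) :
    ∃ s ∉ p, IsIntegral A (s • c) := by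
  haveI : Module.Flat (Localization.AtPrime p) (AtPrime.H A p) :=
    (Module.flat_iff_of_isLocalization (Localization.AtPrime p) p.primeCompl
      (AtPrime.H A p)).mpr inferInstance
  haveI : Module.FaithfullyFlat (Localization.AtPrime p) (AtPrime.H A p) :=
    Module.FaithfullyFlat.of_flat_of_isLocalHom
  haveI : Module.Finite (AtPrime.H A p)
      ((AtPrime.H A p) ⊗[Localization.AtPrime p] ((Localization.AtPrime p) ⊗[A] C)) :=
    Module.Finite.equiv (AlgebraTensorModule.cancelBaseChange A (Localization.AtPrime p)
      (AtPrime.H A p) (AtPrime.H A p) C).symm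
  haveI : Module.Finite (Localization.AtPrime p) ((Localization.AtPrime p) ⊗[A] C) :=
    Module.Finite.of_finite_tensorProduct_of_faithfullyFlat (AtPrime.H A p)
  have h1 : IsIntegral (Localization.AtPrime p)
      ((1 : Localization.AtPrime p) ⊗ₜ[A] c) := Algebra.IsIntegral.isIntegral _
  obtain ⟨m, hm⟩ := IsIntegral.exists_multiple_integral_of_isLocalization p.primeCompl _ h1
  have h2 : (m : A) • ((1 : Localization.AtPrime p) ⊗ₜ[A] c) =
      algebraMap C ((Localization.AtPrime p) ⊗[A] C) ((m : A) • c) := by
    rw [Algebra.TensorProduct.right_algebraMap_apply, TensorProduct.tmul_smul]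
  have h3 : IsIntegral A (algebraMap C ((Localization.AtPrime p) ⊗[A] C) ((m : A) • c)) := by
    rw [← h2]; exact hm
  obtain ⟨m', hm', h4⟩ := IsLocalization.exists_isIntegral_smul_of_isIntegral_map
    (Sₘ := (Localization.AtPrime p) ⊗[A] C) p.primeCompl h3
  refine ⟨m' * m, ?_, ?_⟩
  · exact fun h => (‹p.IsPrime›.mem_or_mem h).elim hm' m.2
  · rw [mul_smul]; exact h4


/-- A pure module with finite fibre supports has finite scheme-theoretic support. -/
theorem finite_quotient_annihilator_of_isPure {A B : Type u} [CommRing A] [CommRing B]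
    [Algebra A B] [Algebra.FiniteType A B] (N : Type u) [AddCommGroup N] [Module B N] [Module A N]
    [IsScalarTower A B N] [Module.Finite B N]
    (hfin : ∀ (p : Ideal A) [p.IsPrime],
      (Module.support (p.Fiber B) (FlatCA.fiberMod p B N)).Finite)
    (hpure : FlatCA.IsPure A B N) : Module.Finite A (B ⧸ Module.annihilator B N) := by
  haveI := quasiFinite_quotient_annihilator N hfin
  haveI : Algebra.IsIntegral A (B ⧸ Module.annihilator B N) := by
    refine ⟨fun c => ?_⟩
    let J : Ideal A :=
      { carrier := {a | IsIntegral A (a • c)}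
        add_mem' := fun {a b} ha hb => by
          show IsIntegral A ((a + b) • c)
          rw [add_smul]; exact IsIntegral.add ha hb
        zero_mem' := by
          show IsIntegral A ((0 : A) • c)
          rw [zero_smul]; exact isIntegral_zero
        smul_mem' := fun r a ha => by
          show IsIntegral A ((r • a) • c)
          rw [smul_assoc]; exact IsIntegral.smul r ha }
    have hJ : J = ⊤ := by
      by_contra h
      obtain ⟨m, hm, hJm⟩ := Ideal.exists_le_maximal J h
      haveI := hm.isPrime
      haveI := finite_henselization_of_pureAlong N m (hpure m)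
      obtain ⟨s, hs, hsc⟩ := exists_notMem_isIntegral_smul (B ⧸ Module.annihilator B N) m c
      exact hs (hJm hsc)
    have h1 : (1 : A) ∈ J := hJ ▸ Submodule.mem_top
    have h2 : IsIntegral A ((1 : A) • c) := h1
    rwa [one_smul] at h2
  exact Algebra.IsIntegral.finite

end Groth.Agent.Lib.Helper14.Impurity
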