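import Mathlib
import Groth.Prelude.Def_FlatCA
import Groth.Prelude.Def_Hensel
import Groth.Agent.Lib.Helper14.Impurity.Core
import Groth.Agent.Lib.Helper8.Hzl.AtPrime
import Groth.Agent.Lib.Helper8.FlatEtale

/-!
# From an elementary étale neighbourhood to the henselization (helper14)
-/

set_option autoImplicit false
set_option linter.style.haveILetI false
universe u

open TensorProduct IsLocalRing CategoryTheory

namespace Groth.Agent.Lib.Helper14.Impurity

open Groth.Agent.Lib.Helper8 Groth.Agent.Lib.Helper8.Hzl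

attribute [local instance] Algebra.TensorProduct.rightAlgebra

/-- An impurity over an elementary étale neighbourhood of `(A, p)` yields an impurity over the
henselization of `A_p` at its closed point. -/
theorem hasImpurity_henselization_of_etaleNhd
    {A B : Type u} [CommRing A] [CommRing B] [Algebra A B] [Algebra.FiniteType A B]
    (N : Type u) [AddCommGroup N] [Module B N] [Module.Finite B N] (p : Ideal A) [p.IsPrime]
    (h : FlatCA.HasImpurity A B N p
      (fun A' _ _ t => ∃ _ : t.IsPrime, FlatCA.IsEtaleNhd A A' p t)) :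
    FlatCA.HasImpurity A B N p (fun A' _ _ t => ∃ (_ : IsLocalRing A')
        (_ : Algebra (Localization.AtPrime p) A')
        (_ : IsScalarTower A (Localization.AtPrime p) A')
        (_ : IsLocalHom (algebraMap (Localization.AtPrime p) A')),
        Hensel.IsHenselization (Localization.AtPrime p) A' ∧ t = maximalIdeal A') := by
  obtain ⟨A', B', N', _, _, _, _, _, _, _, _, _, _, _, _, _, _, f, t', t, _, _, P, _, himp,
    _, hét, hlo, hbij⟩ := h
  let ε : p.ResidueField ≃ₐ[A] t.ResidueField :=
    AlgEquiv.ofBijective (Ideal.ResidueField.mapₐ p t (Algebra.ofId A A') hlo.over) hbij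
  let χ : A' →ₐ[A] p.ResidueField :=
    ε.symm.toAlgHom.comp (IsScalarTower.toAlgHom A A' t.ResidueField)
  have hχ : ∀ x, χ x = 0 ↔ x ∈ t := fun x => by
    change ε.symm (algebraMap A' t.ResidueField x) = 0 ↔ _
    rw [map_eq_zero_iff _ ε.symm.injective, Ideal.algebraMap_residueField_eq_zero]
  obtain ⟨k, φ, hφ⟩ := exists_dominating' A' χ
  let ρ : A' →ₐ[A] AtPrime.H A p := (Nbhd.toHz ⟨k⟩).comp φ
  letI : Algebra A' (AtPrime.H A p) := ρ.toRingHom.toAlgebra
  have htow : IsScalarTower A A' (AtPrime.H A p) :=
    .of_algebraMap_eq (fun a => (ρ.commutes a).symm)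
  haveI : Module.Flat A' (AtPrime.H A p) := flat_of_flat_of_unramified A A' (AtPrime.H A p)
  haveI hst : (maximalIdeal (AtPrime.H A p)).LiesOver t := ⟨by
    ext x
    simp only [Ideal.under, Ideal.mem_comap]
    change _ ↔ ρ x ∈ _
    rw [Hzl.mem_maximalIdeal_iff]
    change _ ↔ χS A p.ResidueField (Nbhd.toHz ⟨k⟩ (φ x)) = 0
    rw [Nbhd.χS_toHz, hφ, hχ]⟩
  have hle : t' ≤ t := himp.2.2.1
  obtain ⟨s', hs's, hs'p, hs't'⟩ :=
    Ideal.exists_ideal_le_liesOver_of_le (p := t') (q := t) (maximalIdeal (AtPrime.H A p)) hle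
  obtain ⟨B₂, N₂, _, _, _, _, _, _, _, _, _, _, _, _, g, P₂, hP₂, himp₂⟩ :=
    exists_impurity_baseChange N p A' B' N' f t' t P himp (AtPrime.H A p) s'
      (maximalIdeal (AtPrime.H A p)) hs's
  exact ⟨AtPrime.H A p, B₂, N₂, inferInstance, inferInstance, inferInstance, inferInstance,
    inferInstance, inferInstance, inferInstance, inferInstance, inferInstance, inferInstance,
    inferInstance, inferInstance, inferInstance, inferInstance, g, s',
    maximalIdeal (AtPrime.H A p), hs'p, inferInstance, P₂, hP₂, himp₂,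
    inferInstance, inferInstance, inferInstance, inferInstance, AtPrime.isHenselization A p, rfl⟩

end Groth.Agent.Lib.Helper14.Impurity
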