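import Mathlib

/-!
# Primes of a tensor product `A' ⊗[A] A₁` cut out by a common field (helper14)
-/

set_option autoImplicit false
set_option linter.style.haveILetI false
universe u

open TensorProduct

namespace Groth.Agent.Lib.Helper14.Impurity

attribute [local instance] Algebra.TensorProduct.rightAlgebra

section

variable {A A' A₁ Ω : Type u} [CommRing A] [CommRing A'] [CommRing A₁] [Field Ω]
  [Algebra A A'] [Algebra A A₁] [Algebra A Ω] (α : A' →ₐ[A] Ω) (β : A₁ →ₐ[A] Ω)

/-- The prime of `A' ⊗[A] A₁` given by a pair of compatible maps to a field. -/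
noncomputable def tensorPrime : Ideal (A' ⊗[A] A₁) :=
  RingHom.ker (Algebra.TensorProduct.productMap α β).toRingHom

instance : (tensorPrime α β).IsPrime := RingHom.ker_isPrime _

lemma mem_tensorPrime {x : A' ⊗[A] A₁} :
    x ∈ tensorPrime α β ↔ Algebra.TensorProduct.productMap α β x = 0 := RingHom.mem_ker

lemma tensorPrime_under_left :
    (tensorPrime α β).under A' = RingHom.ker α.toRingHom := by
  ext x
  rw [Ideal.under, Ideal.mem_comap, mem_tensorPrime, Algebra.TensorProduct.algebraMap_apply,
    RingHom.mem_ker]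
  simp

lemma tensorPrime_under_right :
    (tensorPrime α β).under A₁ = RingHom.ker β.toRingHom := by
  ext x
  rw [Ideal.under, Ideal.mem_comap, mem_tensorPrime,
    Algebra.TensorProduct.right_algebraMap_apply, RingHom.mem_ker]
  simp

end

section goingDown

variable {A A' A₁ Ω : Type u} [CommRing A] [CommRing A'] [CommRing A₁] [Field Ω]
  [Algebra A A'] [Algebra A A₁] [Algebra A Ω] (α : A' →ₐ[A] Ω) (β : A₁ →ₐ[A] Ω)

/-- Flatness of `L ⊗[A] A₁` over `A₁` (right algebra structure). -/
lemma flat_tensor_right (L : Type u) [CommRing L] [Algebra A L] [Module.Flat A L] :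
    Module.Flat A₁ (L ⊗[A] A₁) := by
  let e : (L ⊗[A] A₁) ≃ₗ[A₁] (A₁ ⊗[A] L) :=
    { (TensorProduct.comm A L A₁) with
      map_smul' := fun a x => by
        induction x using TensorProduct.induction_on with
        | zero => simp
        | tmul l b =>
          simp only [AddHom.toFun_eq_coe, LinearMap.coe_toAddHom, LinearEquiv.coe_coe,
            RingHom.id_apply]
          rw [Algebra.smul_def, Algebra.TensorProduct.right_algebraMap_apply,
            Algebra.TensorProduct.tmul_mul_tmul, one_mul, TensorProduct.comm_tmul,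
            TensorProduct.comm_tmul, TensorProduct.smul_tmul', smul_eq_mul]
        | add x y hx hy =>
          simp only [AddHom.toFun_eq_coe, LinearMap.coe_toAddHom, LinearEquiv.coe_coe,
            RingHom.id_apply] at hx hy ⊢
          rw [smul_add, map_add, map_add, hx, hy, smul_add] }
  exact Module.Flat.of_linearEquiv e

theorem exists_le_tensorPrime_liesOver (p' : Ideal A') [p'.IsPrime]
    (hα : RingHom.ker α.toRingHom = p') [Module.Flat A (Localization.AtPrime p')]
    (t' t : Ideal A₁) [t'.IsPrime] [t.IsPrime] (hβ : RingHom.ker β.toRingHom = t) (hle : t' ≤ t) :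
    ∃ (s' : Ideal (A' ⊗[A] A₁)) (_ : s'.IsPrime), s' ≤ tensorPrime α β ∧ s'.LiesOver t' := by
  set L := Localization.AtPrime p' with hL
  have hunit : ∀ y : p'.primeCompl, IsUnit (α y) := fun y => by
    rw [isUnit_iff_ne_zero]
    intro h0
    have : (y : A') ∈ RingHom.ker α.toRingHom := h0
    rw [hα] at this
    exact y.2 this
  let αL : L →ₐ[A] Ω := IsLocalization.liftAlgHom (M := p'.primeCompl) (f := α) hunit
  let ι : A' ⊗[A] A₁ →ₐ[A] L ⊗[A] A₁ :=
    Algebra.TensorProduct.map (IsScalarTower.toAlgHom A A' L) (AlgHom.id A A₁)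
  have hψ : (Algebra.TensorProduct.productMap αL β).comp ι = Algebra.TensorProduct.productMap α β := by
    apply Algebra.TensorProduct.ext'
    intro a b
    simp [ι, αL]
  haveI : Module.Flat A₁ (L ⊗[A] A₁) := flat_tensor_right L
  haveI hlo : (tensorPrime αL β).LiesOver t := ⟨by rw [tensorPrime_under_right, hβ]⟩
  obtain ⟨P, hPle, hPp, hPlo⟩ := Ideal.exists_ideal_le_liesOver_of_le (p := t') (q := t)
    (tensorPrime αL β) hle
  refine ⟨P.comap ι.toRingHom, Ideal.comap_isPrime _ _, ?_, ?_⟩
  · intro x hx
    rw [mem_tensorPrime, ← hψ]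
    exact (mem_tensorPrime αL β).mp (hPle hx)
  · refine ⟨?_⟩
    ext x
    rw [hPlo.over]
    simp only [Ideal.under, Ideal.mem_comap]
    have : ι.toRingHom (algebraMap A₁ (A' ⊗[A] A₁) x) = algebraMap A₁ (L ⊗[A] A₁) x := by
      rw [Algebra.TensorProduct.right_algebraMap_apply, Algebra.TensorProduct.right_algebraMap_apply]
      show ι (1 ⊗ₜ x) = _
      simp [ι]
    rw [this]


end goingDown

end Groth.Agent.Lib.Helper14.Impurity
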