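import Mathlib
import Groth.Prelude.Def_FlatCA
import Groth.Agent.Lib.Helper14.Impurity.TensorPrime
import Groth.Agent.Lib.Helper14.Impurity.FibBC

/-!
# Primes of `A' ⊗[A] A₁` over a pair of primes, with going down (helper14)
-/

set_option autoImplicit false
set_option linter.style.haveILetI false
universe u

open TensorProduct

namespace Groth.Agent.Lib.Helper14.Impurity

attribute [local instance] Algebra.TensorProduct.rightAlgebra

variable {A A' A₁ : Type u} [CommRing A] [CommRing A'] [CommRing A₁] [Algebra A A'] [Algebra A A₁]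

/-- Elementary etale neighbourhoods base change: given an elementary etale neighbourhood `(A₁, t)`
of `(A, p)`, a prime `p'` of `A'` over `p` at which `A'` is flat over `A`, and `t' ≤ t`, there are
primes `s' ≤ s` of `A' ⊗ A₁` over `t' ≤ t` with `(A' ⊗ A₁, s)` an elementary etale neighbourhood
of `(A', p')`. -/
theorem exists_primes_etaleNhd (p : Ideal A) [p.IsPrime] (p' : Ideal A') [p'.IsPrime]
    [p'.LiesOver p] [Module.Flat A (Localization.AtPrime p')]
    (t' t : Ideal A₁) [t'.IsPrime] [t.IsPrime] (hle : t' ≤ t)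
    (het : FlatCA.IsEtaleNhd A A₁ p t) :
    ∃ (s' s : Ideal (A' ⊗[A] A₁)) (_ : s'.IsPrime) (_ : s.IsPrime), s' ≤ s ∧ s'.LiesOver t' ∧
      s.LiesOver t ∧ s.LiesOver p' ∧ FlatCA.IsEtaleNhd A' (A' ⊗[A] A₁) p' s := by
  obtain ⟨hetale, hlo, hbij⟩ := het
  haveI := hlo
  let e : p.ResidueField ≃ₐ[A] t.ResidueField := AlgEquiv.ofBijective _ hbij
  let α : A' →ₐ[A] p'.ResidueField := IsScalarTower.toAlgHom A A' p'.ResidueField
  let β : A₁ →ₐ[A] p'.ResidueField :=
    ((resₐ p p').comp e.symm.toAlgHom).comp (IsScalarTower.toAlgHom A A₁ t.ResidueField)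
  have hα : RingHom.ker α.toRingHom = p' := Ideal.ker_algebraMap_residueField p'
  have hβ : RingHom.ker β.toRingHom = t := by
    ext x
    rw [RingHom.mem_ker]
    show (resₐ p p') (e.symm (algebraMap A₁ t.ResidueField x)) = 0 ↔ _
    rw [map_eq_zero, map_eq_zero_iff _ e.symm.injective, Ideal.algebraMap_residueField_eq_zero]
  obtain ⟨s', hs'p, hs'le, hs'lo⟩ := exists_le_tensorPrime_liesOver α β p' hα t' t hβ hle
  have hst : (tensorPrime α β).LiesOver t := ⟨by rw [tensorPrime_under_right, hβ]⟩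
  have hsp' : (tensorPrime α β).LiesOver p' := ⟨by rw [tensorPrime_under_left, hα]⟩
  refine ⟨s', tensorPrime α β, hs'p, inferInstance, hs'le, hs'lo, hst, hsp', inferInstance, hsp', ?_⟩
  set s := tensorPrime α β with hs
  let ψ : A' ⊗[A] A₁ →+* p'.ResidueField := (Algebra.TensorProduct.productMap α β).toRingHom
  have hψ₁ : s ≤ RingHom.ker ψ := le_of_eq rfl
  have hψ₂ : s.primeCompl ≤ (IsUnit.submonoid p'.ResidueField).comap ψ := by
    intro x hx
    show IsUnit (ψ x)
    rw [isUnit_iff_ne_zero]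
    exact fun h0 => hx h0
  let ψbar : s.ResidueField →+* p'.ResidueField := Ideal.ResidueField.lift s ψ hψ₁ hψ₂
  set m := Ideal.ResidueField.mapₐ p' s (Algebra.ofId A' (A' ⊗[A] A₁)) hsp'.over with hm
  have hcomp : ψbar.comp m.toRingHom = RingHom.id _ := by
    apply Ideal.ResidueField.ringHom_ext
    ext a'
    show ψbar (m (algebraMap A' p'.ResidueField a')) = algebraMap A' p'.ResidueField a'
    rw [AlgHom.commutes, IsScalarTower.algebraMap_apply A' (A' ⊗[A] A₁) s.ResidueField]
    show Ideal.ResidueField.lift s ψ hψ₁ hψ₂ (algebraMap (A' ⊗[A] A₁) s.ResidueField _) = _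
    rw [Ideal.ResidueField.lift_algebraMap]
    show (Algebra.TensorProduct.productMap α β) (algebraMap A' (A' ⊗[A] A₁) a') = _
    rw [Algebra.TensorProduct.algebraMap_apply]
    simp [α]
  refine ⟨m.toRingHom.injective, fun y => ⟨ψbar y, ?_⟩⟩
  apply ψbar.injective
  have := congrArg (fun f => f (ψbar y)) hcomp
  simpa using this


/-- The same without the etale condition. -/
theorem exists_primes_liesOver (p : Ideal A) [p.IsPrime] (p' : Ideal A') [p'.IsPrime]
    [p'.LiesOver p] [Module.Flat A (Localization.AtPrime p')]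
    (t' t : Ideal A₁) [t'.IsPrime] [t.IsPrime] (hle : t' ≤ t) [t.LiesOver p] :
    ∃ (s' s : Ideal (A' ⊗[A] A₁)) (_ : s'.IsPrime) (_ : s.IsPrime), s' ≤ s ∧ s'.LiesOver t' ∧
      s.LiesOver t ∧ s.LiesOver p' := by
  letI a1 : Algebra p.ResidueField p'.ResidueField := (resₐ p p').toRingHom.toAlgebra
  letI a2 : Algebra p.ResidueField t.ResidueField := (resₐ p t).toRingHom.toAlgebra
  haveI : Nontrivial (p'.ResidueField ⊗[p.ResidueField] t.ResidueField) :=
    Algebra.TensorProduct.nontrivial_of_algebraMap_injective_of_isDomain _ _ _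
      (RingHom.injective _) (RingHom.injective _)
  obtain ⟨𝔪, h𝔪⟩ := Ideal.exists_maximal (p'.ResidueField ⊗[p.ResidueField] t.ResidueField)
  letI : Field ((p'.ResidueField ⊗[p.ResidueField] t.ResidueField) ⧸ 𝔪) := Ideal.Quotient.field 𝔪
  let γ₁ : p'.ResidueField →+* (p'.ResidueField ⊗[p.ResidueField] t.ResidueField) ⧸ 𝔪 :=
    (Ideal.Quotient.mk 𝔪).comp
      (Algebra.TensorProduct.includeLeft (R := p.ResidueField) (S := p.ResidueField)
        (A := p'.ResidueField) (B := t.ResidueField)).toRingHom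
  let γ₂ : t.ResidueField →+* (p'.ResidueField ⊗[p.ResidueField] t.ResidueField) ⧸ 𝔪 :=
    (Ideal.Quotient.mk 𝔪).comp
      (Algebra.TensorProduct.includeRight (R := p.ResidueField)
        (A := p'.ResidueField) (B := t.ResidueField)).toRingHom
  let α₀ : A' →+* (p'.ResidueField ⊗[p.ResidueField] t.ResidueField) ⧸ 𝔪 :=
    γ₁.comp (algebraMap A' p'.ResidueField)
  let β₀ : A₁ →+* (p'.ResidueField ⊗[p.ResidueField] t.ResidueField) ⧸ 𝔪 :=
    γ₂.comp (algebraMap A₁ t.ResidueField)
  have hcompat : ∀ a : A, β₀ (algebraMap A A₁ a) = α₀ (algebraMap A A' a) := by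
    intro a
    show Ideal.Quotient.mk 𝔪 ((1 : p'.ResidueField) ⊗ₜ[p.ResidueField]
        (algebraMap A₁ t.ResidueField (algebraMap A A₁ a))) =
      Ideal.Quotient.mk 𝔪 ((algebraMap A' p'.ResidueField (algebraMap A A' a)) ⊗ₜ[p.ResidueField]
        (1 : t.ResidueField))
    congr 1
    rw [← IsScalarTower.algebraMap_apply A A₁ t.ResidueField,
      ← IsScalarTower.algebraMap_apply A A' p'.ResidueField,
      ← (resₐ p t).commutes a, ← (resₐ p p').commutes a]
    show (1 : p'.ResidueField) ⊗ₜ[p.ResidueField]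
        (algebraMap p.ResidueField t.ResidueField (algebraMap A p.ResidueField a)) =
      (algebraMap p.ResidueField p'.ResidueField (algebraMap A p.ResidueField a)) ⊗ₜ[p.ResidueField] 1
    generalize algebraMap A p.ResidueField a = k
    rw [Algebra.algebraMap_eq_smul_one, Algebra.algebraMap_eq_smul_one, TensorProduct.tmul_smul,
      TensorProduct.smul_tmul']
  letI : Algebra A ((p'.ResidueField ⊗[p.ResidueField] t.ResidueField) ⧸ 𝔪) :=
    (α₀.comp (algebraMap A A')).toAlgebra
  let α : A' →ₐ[A] (p'.ResidueField ⊗[p.ResidueField] t.ResidueField) ⧸ 𝔪 :=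
    { α₀ with commutes' := fun _ => rfl }
  let β : A₁ →ₐ[A] (p'.ResidueField ⊗[p.ResidueField] t.ResidueField) ⧸ 𝔪 :=
    { β₀ with commutes' := fun a => hcompat a }
  have hα : RingHom.ker α.toRingHom = p' := by
    ext x
    rw [RingHom.mem_ker]
    show γ₁ (algebraMap A' p'.ResidueField x) = 0 ↔ _
    rw [map_eq_zero, Ideal.algebraMap_residueField_eq_zero]
  have hβ : RingHom.ker β.toRingHom = t := by
    ext x
    rw [RingHom.mem_ker]
    show γ₂ (algebraMap A₁ t.ResidueField x) = 0 ↔ _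
    rw [map_eq_zero, Ideal.algebraMap_residueField_eq_zero]
  obtain ⟨s', hs'p, hs'le, hs'lo⟩ := exists_le_tensorPrime_liesOver α β p' hα t' t hβ hle
  have hst : (tensorPrime α β).LiesOver t := ⟨by rw [tensorPrime_under_right, hβ]⟩
  have hsp' : (tensorPrime α β).LiesOver p' := ⟨by rw [tensorPrime_under_left, hα]⟩
  exact ⟨s', tensorPrime α β, hs'p, inferInstance, hs'le, hs'lo, hst, hsp'⟩


end Groth.Agent.Lib.Helper14.Impurity
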