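import Mathlib
import Groth.Prelude.Def_FlatCA
import Groth.Agent.Lib.Helper14.Impurity.Core
import Groth.Agent.Lib.Helper14.Impurity.Primes

/-!
# Purity descends along base changes flat at the point (helper14)
-/

set_option autoImplicit false
set_option linter.style.haveILetI false
universe u

open TensorProduct

namespace Groth.Agent.Lib.Helper14.Impurity

attribute [local instance] Algebra.TensorProduct.rightAlgebra

variable {A B : Type u} [CommRing A] [CommRing B] [Algebra A B] [Algebra.FiniteType A B]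
    (N : Type u) [AddCommGroup N] [Module B N] [Module.Finite B N] (p : Ideal A) [p.IsPrime]
    (A' B' N' : Type u) [CommRing A'] [CommRing B'] [Algebra A A'] [Algebra B B'] [Algebra A' B']
    [Algebra A B'] [IsScalarTower A B B'] [IsScalarTower A A' B'] [Algebra.IsPushout A B A' B']
    [AddCommGroup N'] [Module B' N'] [Module B N'] [IsScalarTower B B' N'] (f : N →ₗ[B] N')
    (hf : IsBaseChange B' f)
    (p' : Ideal A') [p'.IsPrime] [p'.LiesOver p] [Module.Flat A (Localization.AtPrime p')]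

include hf in
theorem pureAlong_of_flat_baseChange (hpure : FlatCA.IsPureAlong A' B' N' p') :
    FlatCA.IsPureAlong A B N p := by
  intro A₁ B₁ N₁ _ _ _ _ _ _ _ _ _ _ _ _ _ _ f₁ t' t _ _ P _ het himp
  have hle : t' ≤ t := himp.2.2.1
  obtain ⟨s', s, hs'p, hsp, hs's, hs't', hst, hsp', het'⟩ :=
    exists_primes_etaleNhd (A' := A') p p' t' t hle het
  obtain ⟨B₂, N₂, _, _, _, _, _, _, _, _, _, _, _, _, g, P₂, hP₂, himp₂⟩ :=
    exists_impurity_baseChange N p A₁ B₁ N₁ f₁ t' t P himp (A' ⊗[A] A₁) s' s hs's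
  obtain ⟨_, _, _, _, _, _, g', himp'⟩ :=
    isImpurity_rebase N p A' B' N' f hf p' (A' ⊗[A] A₁) B₂ N₂ g s' s P₂ himp₂ hsp'
  exact hpure (A' ⊗[A] A₁) B₂ N₂ g' s' s P₂ het' himp'

include hf in
theorem univPureAlong_of_flat_baseChange (hpure : FlatCA.IsUnivPureAlong A' B' N' p') :
    FlatCA.IsUnivPureAlong A B N p := by
  intro A₁ B₁ N₁ _ _ _ _ _ _ _ _ _ _ _ _ _ _ f₁ t' t _ _ P _ himp
  have hle : t' ≤ t := himp.2.2.1
  haveI hlt : t.LiesOver p := himp.2.2.2.1
  obtain ⟨s', s, hs'p, hsp, hs's, hs't', hst, hsp'⟩ :=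
    exists_primes_liesOver (A' := A') p p' t' t hle
  obtain ⟨B₂, N₂, _, _, _, _, _, _, _, _, _, _, _, _, g, P₂, hP₂, himp₂⟩ :=
    exists_impurity_baseChange N p A₁ B₁ N₁ f₁ t' t P himp (A' ⊗[A] A₁) s' s hs's
  obtain ⟨_, _, _, _, _, _, g', himp'⟩ :=
    isImpurity_rebase N p A' B' N' f hf p' (A' ⊗[A] A₁) B₂ N₂ g s' s P₂ himp₂ hsp'
  exact hpure (A' ⊗[A] A₁) B₂ N₂ g' s' s P₂ himp'

end Groth.Agent.Lib.Helper14.Impurity
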