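import Mathlib
import Groth.Prelude.Def_FlatCA
import Groth.Agent.Lib.Helper14.Impurity.Core
import Groth.Agent.Lib.Helper9.ProjPure

/-!
# The generic point of an impurity does not lie in the fibre over `p` (helper14)

Over a field every finite type module is universally pure, because base changes of vector spaces
are free.
-/

set_option autoImplicit false
set_option linter.style.haveILetI false
universe u

open TensorProduct

namespace Groth.Agent.Lib.Helper14.Impurity

attribute [local instance] Algebra.TensorProduct.rightAlgebra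

/-- If the base ring `A₂` of an impurity is an algebra over the residue field `κ(p)`, we get a
contradiction: the base change of `N` to `A₂` is a free `A₂`-module. -/
theorem false_of_isImpurity_of_residueField_algebra
    {A B : Type u} [CommRing A] [CommRing B] [Algebra A B]
    (N : Type u) [AddCommGroup N] [Module B N] (p : Ideal A) [p.IsPrime]
    (A₂ B₂ N₂ : Type u) [CommRing A₂] [CommRing B₂] [Algebra A A₂] [Algebra B B₂]
    [Algebra A₂ B₂] [Algebra A B₂] [IsScalarTower A B B₂] [IsScalarTower A A₂ B₂]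
    [AddCommGroup N₂] [Module B₂ N₂] [Module B N₂] [IsScalarTower B B₂ N₂] [Module A₂ N₂]
    [IsScalarTower A₂ B₂ N₂] (g : N →ₗ[B] N₂) (s' s : Ideal A₂) [s'.IsPrime] [s.IsPrime]
    (P₂ : Ideal B₂) [P₂.IsPrime]
    (himp : FlatCA.IsImpurity A B N p A₂ B₂ N₂ g s' s P₂)
    [Algebra p.ResidueField A₂] [IsScalarTower A p.ResidueField A₂] : False := by
  obtain ⟨hpush, hbc, hle, -, -, hass, hcl⟩ := himp
  letI : Module A N := Module.compHom N (algebraMap A B)
  haveI : IsScalarTower A B N := ⟨fun a b n => by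
    rw [Algebra.smul_def, mul_smul]
    rfl⟩
  haveI : Algebra.IsPushout A A₂ B B₂ := hpush.symm
  let e1 : N₂ ≃ₗ[A₂] B₂ ⊗[B] N := (hbc.equiv.symm).restrictScalars A₂
  let e2 : B₂ ⊗[B] N ≃ₗ[A₂] A₂ ⊗[A] N := Algebra.IsPushout.cancelBaseChange A A₂ B B₂ N
  let e3 : A₂ ⊗[p.ResidueField] (p.ResidueField ⊗[A] N) ≃ₗ[A₂] A₂ ⊗[A] N :=
    TensorProduct.AlgebraTensorModule.cancelBaseChange A p.ResidueField A₂ A₂ N
  haveI : Module.Free A₂ (A₂ ⊗[p.ResidueField] (p.ResidueField ⊗[A] N)) := inferInstance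
  haveI : Module.Free A₂ N₂ := Module.Free.of_equiv (e3 ≪≫ₗ e2.symm ≪≫ₗ e1.symm)
  exact Groth.Agent.Lib.Helper9.ProjPure.main (A := A₂) (B := B₂) (N := N₂) s' s hle P₂ hass hcl

/-- In an impurity above `p`, the generic point `t'` does not lie over `p`. -/
theorem not_liesOver_of_isImpurity
    {A B : Type u} [CommRing A] [CommRing B] [Algebra A B] [Algebra.FiniteType A B]
    (N : Type u) [AddCommGroup N] [Module B N] [Module.Finite B N] (p : Ideal A) [p.IsPrime]
    (A₁ B₁ N₁ : Type u) [CommRing A₁] [CommRing B₁] [Algebra A A₁] [Algebra B B₁]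
    [Algebra A₁ B₁] [Algebra A B₁] [IsScalarTower A B B₁] [IsScalarTower A A₁ B₁]
    [AddCommGroup N₁] [Module B₁ N₁] [Module B N₁] [IsScalarTower B B₁ N₁] [Module A₁ N₁]
    [IsScalarTower A₁ B₁ N₁] (f₁ : N →ₗ[B] N₁) (t' t : Ideal A₁) [t'.IsPrime] [t.IsPrime]
    (P : Ideal B₁) [P.IsPrime]
    (himp : FlatCA.IsImpurity A B N p A₁ B₁ N₁ f₁ t' t P) : ¬ t'.LiesOver p := by
  intro ht'p
  haveI := ht'p
  haveI htp : t.LiesOver p := himp.2.2.2.1
  have hle : t' ≤ t := himp.2.2.1
  obtain ⟨hs'p, hs'c⟩ := fiberIdeal_isPrime_and_comap p t'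
  obtain ⟨hsp, hsc⟩ := fiberIdeal_isPrime_and_comap p t
  haveI := hs'p
  haveI := hsp
  haveI : (FlatCA.fiberIdeal p t').LiesOver t' := ⟨hs'c.symm⟩
  haveI : (FlatCA.fiberIdeal p t).LiesOver t := ⟨hsc.symm⟩
  have hle₂ : FlatCA.fiberIdeal p t' ≤ FlatCA.fiberIdeal p t := Ideal.map_mono hle
  obtain ⟨B₂, N₂, _, _, _, _, _, _, _, _, _, _, _, _, g, P₂, hP₂, himp₂⟩ :=
    exists_impurity_baseChange N p A₁ B₁ N₁ f₁ t' t P himp (p.Fiber A₁)
      (FlatCA.fiberIdeal p t') (FlatCA.fiberIdeal p t) hle₂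
  exact false_of_isImpurity_of_residueField_algebra N p (p.Fiber A₁) B₂ N₂ g _ _ P₂ himp₂

end Groth.Agent.Lib.Helper14.Impurity
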