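import Mathlib
import Groth.Prelude.Def_FlatCA
import Groth.Agent.Lib.Helper14.Impurity.FinPres
import Groth.Agent.Lib.Helper14.Impurity.MoveGeneric
import Groth.Agent.Lib.Helper14.Impurity.DimOne
import Groth.Agent.Lib.Helper14.Impurity.SameFibre

/-!
# Over a Noetherian base, impurities can be found over quasi-finite base rings (helper14)
-/

set_option autoImplicit false
set_option linter.style.haveILetI false
universe u

open TensorProduct

namespace Groth.Agent.Lib.Helper14.Impurity

attribute [local instance] Algebra.TensorProduct.rightAlgebra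

section closed

variable {A A₁ : Type u} [CommRing A] [CommRing A₁] [Algebra A A₁] (p : Ideal A) [p.IsPrime]

/-- A prime whose extension to the fibre ring is maximal is maximal among primes over `p`. -/
lemma eq_of_le_of_fiberIdeal_isMaximal (t : Ideal A₁) [t.IsPrime] [t.LiesOver p]
    (hmax : (FlatCA.fiberIdeal p t).IsMaximal) (q : Ideal A₁) [q.IsPrime] (htq : t ≤ q)
    [q.LiesOver p] : q = t := by
  obtain ⟨hqp, hqc⟩ := fiberIdeal_isPrime_and_comap p q
  obtain ⟨-, htc⟩ := fiberIdeal_isPrime_and_comap p t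
  have hle : FlatCA.fiberIdeal p t ≤ FlatCA.fiberIdeal p q := Ideal.map_mono htq
  have heq : FlatCA.fiberIdeal p t = FlatCA.fiberIdeal p q := hmax.eq_of_le hqp.ne_top hle
  rw [← hqc, ← heq, htc]

/-- Being maximal among the primes over `p` passes to quotients. -/
lemma closedInFibre_quotient (I t : Ideal A₁)
    (hmax : ∀ q : Ideal A₁, q.IsPrime → t ≤ q → q.LiesOver p → q = t)
    (q' : Ideal (A₁ ⧸ I)) (hq' : q'.IsPrime) (hle : t.map (Ideal.Quotient.mk I) ≤ q')
    (hlo : q'.LiesOver p) : q' = t.map (Ideal.Quotient.mk I) := by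
  have h1 : t ≤ q'.comap (Ideal.Quotient.mk I) := Ideal.map_le_iff_le_comap.mp hle
  have h2 : (q'.comap (Ideal.Quotient.mk I)).LiesOver p := ⟨by
    rw [hlo.over]
    rfl⟩
  have h3 := hmax _ (Ideal.comap_isPrime _ _) h1 h2
  rw [← h3, Ideal.map_comap_of_surjective _ Ideal.Quotient.mk_surjective]

/-- A prime of a finite type algebra which is both maximal and minimal among the primes over `p`
is a point at which the algebra is quasi-finite. -/
theorem quasiFiniteAt_of_isolated [Algebra.FiniteType A A₁] (t : Ideal A₁) [t.IsPrime]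
    [t.LiesOver p]
    (hmax : ∀ q : Ideal A₁, q.IsPrime → t ≤ q → q.LiesOver p → q = t)
    (hmin : ∀ q : Ideal A₁, q.IsPrime → q ≤ t → q.LiesOver p → q = t) :
    Algebra.QuasiFiniteAt A t := by
  obtain ⟨hQp, hQc⟩ := fiberIdeal_isPrime_and_comap p t
  haveI := hQp
  haveI : Algebra.FiniteType p.ResidueField (p.Fiber A₁) :=
    inferInstanceAs (Algebra.FiniteType p.ResidueField (p.ResidueField ⊗[A] A₁))
  haveI : IsNoetherianRing (p.Fiber A₁) := Algebra.FiniteType.isNoetherianRing p.ResidueField _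
  haveI : IsJacobsonRing (p.Fiber A₁) := isJacobsonRing_of_finiteType (A := p.ResidueField)
  let x : PrimeSpectrum (p.Fiber A₁) := ⟨FlatCA.fiberIdeal p t, hQp⟩
  have hxmax : x.asIdeal.IsMaximal := by
    obtain ⟨M', hM', hle⟩ := Ideal.exists_le_maximal _ hQp.ne_top
    haveI := hM'.isPrime
    have h1 : t ≤ M'.comap (iota (S := A₁) p) := by
      rw [← hQc]
      exact Ideal.comap_mono hle
    have h2 := hmax _ (Ideal.comap_isPrime _ _) h1 (comap_iota_liesOver p M')
    have h3 : M' = FlatCA.fiberIdeal p t := by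
      rw [← h2, fiberIdeal_comap]
    change (FlatCA.fiberIdeal p t).IsMaximal
    rw [← h3]
    exact hM'
  have hxmin : x.asIdeal ∈ minimalPrimes (p.Fiber A₁) := by
    refine ⟨⟨hQp, bot_le⟩, ?_⟩
    rintro Q' ⟨hQ'p, -⟩ hle
    haveI := hQ'p
    have h1 : Q'.comap (iota (S := A₁) p) ≤ t := by
      rw [← hQc]
      exact Ideal.comap_mono hle
    have h2 := hmin _ (Ideal.comap_isPrime _ _) h1 (comap_iota_liesOver p Q')
    change FlatCA.fiberIdeal p t ≤ Q'
    rw [← h2, fiberIdeal_comap]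
  have hopen : IsOpen ({x} : Set (PrimeSpectrum (p.Fiber A₁))) := by
    rw [(PrimeSpectrum.isOpen_singleton_tfae_of_isNoetherian_of_isJacobsonRing x).out 0 2 rfl rfl]
    exact ⟨(PrimeSpectrum.isClosed_singleton_iff_isMaximal x).mpr hxmax,
      PrimeSpectrum.stableUnderGeneralization_singleton.mpr hxmin⟩
  haveI : Algebra.QuasiFiniteAt p.ResidueField (FlatCA.fiberIdeal p t) :=
    Algebra.QuasiFiniteAt.of_isOpen_singleton (R := p.ResidueField) x hopen
  exact Algebra.QuasiFiniteAt.of_quasiFiniteAt_residueField p t (FlatCA.fiberIdeal p t) hQc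

end closed

section main

/-- Primes `⊥` and `s.map mk` of a quotient by a prime lie over the expected primes. -/
lemma bot_liesOver_quotient {R : Type u} [CommRing R] (I : Ideal R) [I.IsPrime] :
    (⊥ : Ideal (R ⧸ I)).LiesOver I := ⟨by
  ext x
  simp only [Ideal.under, Ideal.mem_comap, Ideal.mem_bot]
  exact Ideal.Quotient.eq_zero_iff_mem.symm⟩

lemma map_liesOver_quotient {R : Type u} [CommRing R] (I s : Ideal R) (hIs : I ≤ s) :
    (s.map (Ideal.Quotient.mk I)).LiesOver s := ⟨by
  change s = (s.map (Ideal.Quotient.mk I)).comap (Ideal.Quotient.mk I)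
  rw [Ideal.comap_map_of_surjective _ Ideal.Quotient.mk_surjective, ← RingHom.ker_eq_comap_bot,
    Ideal.mk_ker]
  exact (sup_eq_left.mpr hIs).symm⟩

/-- Over a Noetherian base, if there is an impurity above `p` then there is one whose base ring
is of finite type and quasi-finite at the point `t`. -/
theorem hasImpurity_quasiFiniteAt_of_noetherian
    {A B : Type u} [CommRing A] [IsNoetherianRing A] [CommRing B] [Algebra A B]
    [Algebra.FiniteType A B]
    (N : Type u) [AddCommGroup N] [Module B N] [Module.Finite B N] (p : Ideal A) [p.IsPrime]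
    (h : FlatCA.HasImpurity A B N p (fun _ _ _ _ => True)) :
    FlatCA.HasImpurity A B N p (fun A' _ _ t =>
      ∃ _ : t.IsPrime, Algebra.FiniteType A A' ∧ Algebra.QuasiFiniteAt A t) := by
  classical
  obtain ⟨A', B', N', _, _, _, _, _, _, _, _, _, _, _, _, _, _, f, t', t, _, _, P, _, himp,
    hfp, hmax⟩ := hasImpurity_finitePresentation_closed N p h
  haveI := hfp
  haveI : IsNoetherianRing A' := Algebra.FiniteType.isNoetherianRing A A'
  have hle : t' ≤ t := himp.2.2.1
  haveI hlt : t.LiesOver p := himp.2.2.2.1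
  have hmax' : ∀ q : Ideal A', q.IsPrime → t ≤ q → q.LiesOver p → q = t := fun q hq htq hqp =>
    eq_of_le_of_fiberIdeal_isMaximal p t hmax q htq
  -- pass to the domain `D = A' / t'`
  haveI : (t.map (Ideal.Quotient.mk t')).IsPrime :=
    Ideal.map_isPrime_of_surjective Ideal.Quotient.mk_surjective (by rw [Ideal.mk_ker]; exact hle)
  haveI := bot_liesOver_quotient t'
  haveI := map_liesOver_quotient t' t hle
  obtain ⟨B₂, N₂, _, _, _, _, _, _, _, _, _, _, _, _, g, P₂, hP₂, himp₂⟩ :=
    exists_impurity_baseChange N p A' B' N' f t' t P himp (A' ⧸ t') ⊥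
      (t.map (Ideal.Quotient.mk t')) bot_le
  obtain ⟨hpush₂, hbc₂, hlt₂, hImp₂⟩ := (isImpurity_iff N p (A' ⧸ t') B₂ N₂ g ⊥ _ P₂).mp himp₂
  haveI := hpush₂
  haveI : Algebra.FiniteType (A' ⧸ t') B₂ := finiteType_of_isPushout A (A' ⧸ t') B B₂
  haveI : IsNoetherianRing B₂ := Algebra.FiniteType.isNoetherianRing (A' ⧸ t') B₂
  haveI : Module.Finite B₂ N₂ := Module.Finite.equiv hbc₂.equiv
  have hmaxD := closedInFibre_quotient p t' t hmax'
  obtain ⟨h₀, hh₀, hmove⟩ := exists_ne_zero_forall_imp N₂ (t.map (Ideal.Quotient.mk t')) P₂ hImp₂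
  -- the point `s` is not the generic point
  have hs : t.map (Ideal.Quotient.mk t') ≠ ⊥ := by
    intro hs
    obtain ⟨-, hlo, -, hcl⟩ := hImp₂
    refine hcl P₂ le_rfl ?_
    rw [hs]
    exact hlo
  obtain ⟨q, hqp, hqs, hh₀q, hsat⟩ :=
    exists_prime_lt_saturated (t.map (Ideal.Quotient.mk t')) hs h₀ hh₀
  haveI := hqp
  obtain ⟨P₁, hP₁, hImp₃⟩ := hmove q hqs.le hh₀q
  have himp₃ : FlatCA.IsImpurity A B N p (A' ⧸ t') B₂ N₂ g q (t.map (Ideal.Quotient.mk t')) P₁ :=
    (isImpurity_iff N p (A' ⧸ t') B₂ N₂ g q _ P₁).mpr ⟨hpush₂, hbc₂, hlt₂, hImp₃⟩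
  -- pass to the quotient by `q`
  haveI : ((t.map (Ideal.Quotient.mk t')).map (Ideal.Quotient.mk q)).IsPrime :=
    Ideal.map_isPrime_of_surjective Ideal.Quotient.mk_surjective
      (by rw [Ideal.mk_ker]; exact hqs.le)
  haveI := bot_liesOver_quotient q
  haveI := map_liesOver_quotient q (t.map (Ideal.Quotient.mk t')) hqs.le
  obtain ⟨B₃, N₃, _, _, _, _, _, _, _, _, _, _, _, _, g₃, P₃, hP₃, himp₄⟩ :=
    exists_impurity_baseChange N p (A' ⧸ t') B₂ N₂ g q (t.map (Ideal.Quotient.mk t')) P₁ himp₃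
      ((A' ⧸ t') ⧸ q) ⊥ ((t.map (Ideal.Quotient.mk t')).map (Ideal.Quotient.mk q)) bot_le
  haveI hlt₄ : ((t.map (Ideal.Quotient.mk t')).map (Ideal.Quotient.mk q)).LiesOver p :=
    himp₄.2.2.2.1
  have hnot := not_liesOver_of_isImpurity N p ((A' ⧸ t') ⧸ q) B₃ N₃ g₃ ⊥ _ P₃ himp₄
  have hmaxD₁ := closedInFibre_quotient p q (t.map (Ideal.Quotient.mk t')) hmaxD
  haveI hftD : Algebra.FiniteType A (A' ⧸ t') :=
    Algebra.FiniteType.of_surjective (Ideal.Quotient.mkₐ A t') (Ideal.Quotient.mkₐ_surjective A t')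
  haveI hftD₁ : Algebra.FiniteType A ((A' ⧸ t') ⧸ q) :=
    Algebra.FiniteType.of_surjective (Ideal.Quotient.mkₐ A q) (Ideal.Quotient.mkₐ_surjective A q)
  have hqf : Algebra.QuasiFiniteAt A ((t.map (Ideal.Quotient.mk t')).map (Ideal.Quotient.mk q)) := by
    refine quasiFiniteAt_of_isolated p _ hmaxD₁ ?_
    intro q₁ hq₁p hq₁le hq₁lo
    haveI := hq₁p
    have h1 : q ≤ q₁.comap (Ideal.Quotient.mk q) := by
      intro x hx
      rw [Ideal.mem_comap, Ideal.Quotient.eq_zero_iff_mem.mpr hx]
      exact q₁.zero_mem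
    have h2 : q₁.comap (Ideal.Quotient.mk q) ≤ t.map (Ideal.Quotient.mk t') := by
      have := Ideal.comap_mono (f := Ideal.Quotient.mk q) hq₁le
      exact this.trans (map_liesOver_quotient q (t.map (Ideal.Quotient.mk t')) hqs.le).over.ge
    by_cases h3 : q₁.comap (Ideal.Quotient.mk q) = q
    · exfalso
      apply hnot
      have h4 : q₁ = ⊥ := by
        rw [← Ideal.map_comap_of_surjective _ Ideal.Quotient.mk_surjective q₁, h3,
          Ideal.map_quotient_self]
      rw [← h4]
      exact hq₁lo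
    · have h4 := hsat _ (Ideal.comap_isPrime _ _) (lt_of_le_of_ne h1 (Ne.symm h3)) h2
      rw [← Ideal.map_comap_of_surjective _ Ideal.Quotient.mk_surjective q₁, h4]
  exact ⟨(A' ⧸ t') ⧸ q, B₃, N₃, inferInstance, inferInstance, inferInstance, inferInstance,
    inferInstance, inferInstance, inferInstance, inferInstance, inferInstance, inferInstance,
    inferInstance, inferInstance, inferInstance, inferInstance, g₃, ⊥,
    (t.map (Ideal.Quotient.mk t')).map (Ideal.Quotient.mk q), inferInstance, inferInstance, P₃,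
    hP₃, himp₄, inferInstance, hftD₁, hqf⟩

end main

end Groth.Agent.Lib.Helper14.Impurity
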