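import Mathlib
import Groth.Prelude.Def_FlatCA
import Groth.Agent.Lib.Helper14.Impurity.Core

/-!
# Pushing an impurity down along an integral base change (helper14)
-/

set_option autoImplicit false
set_option linter.style.haveILetI false
universe u

open TensorProduct

namespace Groth.Agent.Lib.Helper14.Impurity

attribute [local instance] Algebra.TensorProduct.rightAlgebra

variable {A₁ A₂ B₁ B₂ : Type u} [CommRing A₁] [CommRing A₂] [CommRing B₁] [CommRing B₂]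
  [Algebra A₁ A₂] [Algebra A₁ B₁] [Algebra A₂ B₂] [Algebra B₁ B₂] [Algebra A₁ B₂]
  [IsScalarTower A₁ B₁ B₂] [IsScalarTower A₁ A₂ B₂]
  {N₁ N₂ : Type u} [AddCommGroup N₁] [Module B₁ N₁] [Module A₁ N₁] [IsScalarTower A₁ B₁ N₁]
  [AddCommGroup N₂] [Module B₂ N₂] [Module A₂ N₂] [IsScalarTower A₂ B₂ N₂]
  [Module B₁ N₂] [IsScalarTower B₁ B₂ N₂]

/-- If `A₁ → A₂` is integral and `s` is the only prime of `A₂` over its contraction, the intrinsic
part of an impurity over `(A₂, s' ≤ s)` descends to `A₁`. -/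
theorem Imp.pushdown [Algebra.IsPushout A₁ B₁ A₂ B₂] [Algebra.FiniteType A₁ B₁]
    [Module.Finite B₁ N₁] [Algebra.IsIntegral A₁ A₂] (f : N₁ →ₗ[B₁] N₂) (hf : IsBaseChange B₂ f)
    (s' s : Ideal A₂) [s'.IsPrime] [s.IsPrime] (P₂ : Ideal B₂) [P₂.IsPrime]
    (h : Imp A₂ B₂ N₂ s' s P₂)
    (huniq : ∀ (s'' : Ideal A₂) [s''.IsPrime], s''.under A₁ = s.under A₁ → s'' = s) :
    haveI : (s'.under A₁).IsPrime := Ideal.comap_isPrime _ _
    haveI : (s.under A₁).IsPrime := Ideal.comap_isPrime _ _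
    haveI : (P₂.comap (algebraMap B₁ B₂)).IsPrime := Ideal.comap_isPrime _ _
    Imp A₁ B₁ N₁ (s'.under A₁) (s.under A₁) (P₂.comap (algebraMap B₁ B₂)) := by
  haveI : (s'.under A₁).IsPrime := Ideal.comap_isPrime _ _
  haveI : (s.under A₁).IsPrime := Ideal.comap_isPrime _ _
  haveI : (P₂.comap (algebraMap B₁ B₂)).IsPrime := Ideal.comap_isPrime _ _
  obtain ⟨hle, hlo, hass, hcl⟩ := h
  haveI := hlo
  haveI hs'lo : s'.LiesOver (s'.under A₁) := ⟨rfl⟩
  haveI hslo : s.LiesOver (s.under A₁) := ⟨rfl⟩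
  refine ⟨Ideal.comap_mono hle, liesOver_comap (s'.under A₁) s' P₂, ?_, ?_⟩
  · have h1 := (fibMap_ass (s'.under A₁) s' f hf).1 _ hass
    rw [comap_fibMap_eq, (fiberIdeal_isPrime_and_comap s' P₂).2] at h1
    exact h1
  · intro Q₁ hQ₁ hPQ hQlo
    haveI : Algebra.IsIntegral B₁ B₂ := Algebra.IsPushout.isIntegral' A₁ B₁ A₂ B₂
    obtain ⟨Q₂, hQ₂ge, hQ₂p, hQ₂c⟩ :=
      Ideal.exists_ideal_over_prime_of_isIntegral_of_isPrime Q₁ P₂ hPQ
    haveI := hQ₂p
    haveI : (Q₂.under A₂).IsPrime := Ideal.comap_isPrime _ _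
    have h2 : (Q₂.under A₂).under A₁ = s.under A₁ := by
      rw [hQlo.over]
      ext x
      simp only [Ideal.under, Ideal.mem_comap]
      rw [← hQ₂c, Ideal.mem_comap, ← IsScalarTower.algebraMap_apply A₁ A₂ B₂,
        ← IsScalarTower.algebraMap_apply A₁ B₁ B₂]
    have h3 := huniq (Q₂.under A₂) h2
    exact hcl Q₂ hQ₂ge ⟨h3.symm⟩

end Groth.Agent.Lib.Helper14.Impurity
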