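import Mathlib
import Groth.Prelude.Def_FlatCA
import Groth.Agent.Lib.Helper14.Impurity.Core
import Groth.Agent.Lib.Helper14.Impurity.Pushdown
import Groth.Agent.Lib.Helper14.Impurity.TensorPrime

/-!
# From an impurity over a quasi-finite base to one over an elementary etale neighbourhood (helper14)
-/

set_option autoImplicit false
set_option linter.style.haveILetI false
universe u

open TensorProduct

namespace Groth.Agent.Lib.Helper14.Impurity

attribute [local instance] Algebra.TensorProduct.rightAlgebra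

set_option maxHeartbeats 1000000 in
theorem hasImpurity_etaleNhd_of_quasiFiniteAt
    {A B : Type u} [CommRing A] [CommRing B] [Algebra A B] [Algebra.FiniteType A B]
    (N : Type u) [AddCommGroup N] [Module B N] [Module.Finite B N] (p : Ideal A) [p.IsPrime]
    (h : FlatCA.HasImpurity A B N p (fun A' _ _ t =>
      ∃ _ : t.IsPrime, Algebra.FiniteType A A' ∧ Algebra.QuasiFiniteAt A t)) :
    FlatCA.HasImpurity A B N p (fun A' _ _ t => ∃ _ : t.IsPrime, FlatCA.IsEtaleNhd A A' p t) := by
  obtain ⟨A₁, B₁, N₁, _, _, _, _, _, _, _, _, _, _, _, _, _, _, f₁, t', t, ht', ht, P, hP, himp,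
    ht2, hft, hqf⟩ := h
  have hle : t' ≤ t := himp.2.2.1
  haveI hlt : t.LiesOver p := himp.2.2.2.1
  obtain ⟨E, _, _, hE, PE, hPE, hPEp, e, he, P', hP'p, hP'lo, hP't, heP', hbij, hfin, huniq⟩ :=
    Algebra.exists_etale_isIdempotentElem_forall_liesOver_eq (R := A) (S := A₁) p t
  -- the finite `E`-algebra `C`
  let D := E ⊗[A] A₁
  let C := Localization.Away e
  have hdisj : Disjoint (Submonoid.powers e : Set D) (P' : Set D) := by
    rw [Ideal.disjoint_powers_iff_notMem_of_isPrime]; exact heP'
  let c : Ideal C := P'.map (algebraMap D C)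
  haveI hcp : c.IsPrime := IsLocalization.isPrime_of_isPrime_disjoint (.powers e) _ _ hP'p hdisj
  have hcD : c.comap (algebraMap D C) = P' :=
    IsLocalization.comap_map_of_isPrime_disjoint (.powers e) _ hP'p hdisj
  haveI hct : c.LiesOver t := ⟨by
    rw [← hP't]
    ext x
    simp only [Ideal.under, Ideal.mem_comap]
    rw [IsScalarTower.algebraMap_apply A₁ D C, ← Ideal.mem_comap (f := algebraMap D C), hcD]
    rfl⟩
  haveI hcPE : c.LiesOver PE := ⟨by
    rw [hP'lo.over]
    ext x
    simp only [Ideal.under, Ideal.mem_comap]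
    rw [IsScalarTower.algebraMap_apply E D C, ← Ideal.mem_comap (f := algebraMap D C), hcD]⟩
  haveI : Module.Flat A₁ D := flat_tensor_right E
  haveI : Module.Flat A₁ C := Module.Flat.trans A₁ D C
  obtain ⟨c', hc'le, hc'p, hc'lo⟩ := Ideal.exists_ideal_le_liesOver_of_le (p := t') (q := t) c hle
  haveI := hc'p
  haveI := hc'lo
  -- base change the impurity to `C`
  obtain ⟨B₂, N₂, _, _, _, _, _, _, _, _, _, _, _, _, g, P₂, hP₂, himp₂⟩ :=
    exists_impurity_baseChange N p A₁ B₁ N₁ f₁ t' t P himp C c' c hc'le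
  -- view it as an impurity of the base change to `E`
  obtain ⟨_, _, _, _, _, _, g', himp'⟩ :=
    isImpurity_rebase N p E (E ⊗[A] B) ((E ⊗[A] B) ⊗[B] N) (TensorProduct.mk B (E ⊗[A] B) N 1)
      (TensorProduct.isBaseChange B N (E ⊗[A] B)) PE C B₂ N₂ g c' c P₂ himp₂ hcPE
  obtain ⟨hpush', hbc', -, hImp'⟩ :=
    (isImpurity_iff ((E ⊗[A] B) ⊗[B] N) PE C B₂ N₂ g' c' c P₂).mp himp'
  -- push down to `E`
  haveI : Algebra.IsIntegral E C := Algebra.IsIntegral.of_finite E C
  have hu : ∀ (s'' : Ideal C) [s''.IsPrime], s''.under E = c.under E → s'' = c := by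
    intro s'' hs'' hs''E
    have h1 : (s''.comap (algebraMap D C)) = P' := by
      haveI : (s''.comap (algebraMap D C)).IsPrime := Ideal.comap_isPrime _ _
      apply huniq _ inferInstance
      · refine ⟨?_⟩
        rw [hcPE.over, ← hs''E]
        ext x
        simp only [Ideal.under, Ideal.mem_comap]
        rw [← IsScalarTower.algebraMap_apply E D C]
      · intro hmem
        have h2 : algebraMap D C e ∈ s'' := hmem
        exact hs''.ne_top (Ideal.eq_top_of_isUnit_mem _ h2
          (IsLocalization.map_units C (⟨e, Submonoid.mem_powers e⟩ : Submonoid.powers e)))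
    rw [← IsLocalization.map_comap (.powers e) C s'']
    show Ideal.map (algebraMap D C) (s''.comap (algebraMap D C)) = c
    rw [h1]
  have hImpE := Imp.pushdown (A₁ := E) (A₂ := C) (B₁ := E ⊗[A] B) (B₂ := B₂)
    (N₁ := (E ⊗[A] B) ⊗[B] N) (N₂ := N₂) g' hbc' c' c P₂ hImp' hu
  haveI : (c'.under E).IsPrime := Ideal.comap_isPrime _ _
  haveI : (c.under E).IsPrime := Ideal.comap_isPrime _ _
  haveI : (P₂.comap (algebraMap (E ⊗[A] B) B₂)).IsPrime := Ideal.comap_isPrime _ _
  have hcE : c.under E = PE := hcPE.over.symm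
  refine ⟨E, E ⊗[A] B, (E ⊗[A] B) ⊗[B] N, inferInstance, inferInstance, inferInstance,
    inferInstance, inferInstance, inferInstance, inferInstance, inferInstance, inferInstance,
    inferInstance, inferInstance, inferInstance, inferInstance, inferInstance,
    TensorProduct.mk B (E ⊗[A] B) N 1, c'.under E, c.under E, inferInstance, inferInstance,
    P₂.comap (algebraMap (E ⊗[A] B) B₂), inferInstance, ?_, inferInstance, ?_⟩
  · refine (isImpurity_iff N p E _ _ _ _ _ _).mpr ⟨inferInstance,
      TensorProduct.isBaseChange B N (E ⊗[A] B), ?_, hImpE⟩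
    rw [hcE]; exact hPEp
  · subst hcE
    exact ⟨hE, hPEp, hbij⟩

end Groth.Agent.Lib.Helper14.Impurity
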