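import Mathlib
import Groth.Prelude.Def_FlatCA
import Groth.Prelude.Def_Hensel
import Groth.Agent.Lib.Helper14.Impurity.QFNoeth
import Groth.Agent.Lib.Helper14.Impurity.QuasiFinite
import Groth.Agent.Lib.Helper14.Impurity.Hens
import Groth.Agent.Lib.Helper14.Impurity.HensUp
import Groth.Agent.Lib.Helper14.Impurity.PureFlatBC

/-!
# Purity and universal purity along a fibre agree when the local ring is Noetherian (helper14)
-/

set_option autoImplicit false
set_option linter.style.haveILetI false
universe u

open TensorProduct IsLocalRing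

namespace Groth.Agent.Lib.Helper14.Impurity

attribute [local instance] Algebra.TensorProduct.rightAlgebra

/-- An impurity of the base change `N'` above `p'` is an impurity of `N` above `p`. -/
theorem hasImpurity_unrebase
    {A B : Type u} [CommRing A] [CommRing B] [Algebra A B]
    (N : Type u) [AddCommGroup N] [Module B N] (p : Ideal A) [p.IsPrime]
    (A' B' N' : Type u) [CommRing A'] [CommRing B'] [Algebra A A'] [Algebra B B'] [Algebra A' B']
    [Algebra A B'] [IsScalarTower A B B'] [IsScalarTower A A' B'] [Algebra.IsPushout A B A' B']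
    [AddCommGroup N'] [Module B' N'] [Module B N'] [IsScalarTower B B' N'] (f : N →ₗ[B] N')
    (hf : IsBaseChange B' f) (p' : Ideal A') [p'.IsPrime] [p'.LiesOver p]
    (Q' : ∀ (A₂ : Type u) [CommRing A₂] [Algebra A' A₂], Ideal A₂ → Prop)
    (Q : ∀ (A₂ : Type u) [CommRing A₂] [Algebra A A₂], Ideal A₂ → Prop)
    (hQ : ∀ (A₂ : Type u) [CommRing A₂] [Algebra A' A₂] (t : Ideal A₂), Q' A₂ t →
      @Q A₂ _ ((algebraMap A' A₂).comp (algebraMap A A')).toAlgebra t)
    (h : FlatCA.HasImpurity A' B' N' p' Q') : FlatCA.HasImpurity A B N p Q := by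
  obtain ⟨A₂, B₂, N₂, _, _, _, _, _, _, _, _, _, _, _, _, _, _, g', s', s, _, _, P₂, _, himp,
    hQ'⟩ := h
  obtain ⟨hpush, hbc, hle, hlt, hlP, hass, hlast⟩ := himp
  letI iAA₂ : Algebra A A₂ := ((algebraMap A' A₂).comp (algebraMap A A')).toAlgebra
  letI iBB₂ : Algebra B B₂ := ((algebraMap B' B₂).comp (algebraMap B B')).toAlgebra
  letI iAB₂ : Algebra A B₂ := ((algebraMap A' B₂).comp (algebraMap A A')).toAlgebra
  have s1 : IsScalarTower A A' A₂ := IsScalarTower.of_algebraMap_eq (fun x => rfl)
  have s2 : IsScalarTower B B' B₂ := IsScalarTower.of_algebraMap_eq (fun x => rfl)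
  have s3 : IsScalarTower A A' B₂ := IsScalarTower.of_algebraMap_eq (fun x => rfl)
  have s4 : IsScalarTower A A₂ B₂ := IsScalarTower.of_algebraMap_eq (fun x => by
    change algebraMap A' B₂ (algebraMap A A' x) =
      algebraMap A₂ B₂ (algebraMap A' A₂ (algebraMap A A' x))
    rw [← IsScalarTower.algebraMap_apply A' A₂ B₂])
  have s5 : IsScalarTower A B' B₂ := IsScalarTower.of_algebraMap_eq (fun x => by
    change algebraMap A' B₂ (algebraMap A A' x) = algebraMap B' B₂ (algebraMap A B' x)
    rw [IsScalarTower.algebraMap_apply A A' B', ← IsScalarTower.algebraMap_apply A' B' B₂])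
  have s6 : IsScalarTower A B B₂ := IsScalarTower.of_algebraMap_eq (fun x => by
    change algebraMap A' B₂ (algebraMap A A' x) =
      algebraMap B' B₂ (algebraMap B B' (algebraMap A B x))
    rw [← IsScalarTower.algebraMap_apply A B B', IsScalarTower.algebraMap_apply A A' B',
      ← IsScalarTower.algebraMap_apply A' B' B₂])
  letI mBN₂ : Module B N₂ := Module.compHom N₂ (algebraMap B B₂)
  have s7 : IsScalarTower B B₂ N₂ := ⟨fun b b'' n => by
    change (algebraMap B B₂ b * b'') • n = algebraMap B B₂ b • (b'' • n)
    rw [mul_smul]⟩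
  have s8 : IsScalarTower B B' N₂ := ⟨fun b b' n => by
    rw [Algebra.smul_def, mul_smul]
    change _ = algebraMap B' B₂ (algebraMap B B' b) • (b' • n)
    rw [algebraMap_smul B₂ (algebraMap B B' b)]⟩
  have hbc' : IsBaseChange B₂ ((g'.restrictScalars B).comp f) := IsBaseChange.comp hf hbc
  have hpush' : Algebra.IsPushout A B A₂ B₂ := by
    have h1 : Algebra.IsPushout A A' B B' := Algebra.IsPushout.symm inferInstance
    have h2 : Algebra.IsPushout A' A₂ B' B₂ := hpush.symm
    exact ((Algebra.IsPushout.comp_iff A A' B B').mpr h2).symm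
  have hsp : s.LiesOver p := Ideal.LiesOver.trans s p' p
  exact ⟨A₂, B₂, N₂, inferInstance, inferInstance, iAA₂, iBB₂, inferInstance, iAB₂, s6, s4,
    inferInstance, inferInstance, mBN₂, s7, inferInstance, inferInstance,
    (g'.restrictScalars B).comp f, s', s, inferInstance, inferInstance, P₂, inferInstance,
    ⟨hpush', hbc', hle, hsp, hlP, hass, hlast⟩, hQ A₂ s hQ'⟩

/-- A henselization of the localization of a local ring at its maximal ideal is a henselization
of the local ring. -/
theorem isHenselization_of_localization_maximalIdeal (R S : Type u) [CommRing R] [IsLocalRing R]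
    [CommRing S] [IsLocalRing S] [Algebra R S] [IsLocalHom (algebraMap R S)]
    [Algebra (Localization.AtPrime (maximalIdeal R)) S]
    [IsScalarTower R (Localization.AtPrime (maximalIdeal R)) S]
    [IsLocalHom (algebraMap (Localization.AtPrime (maximalIdeal R)) S)]
    (h : Hensel.IsHenselization (Localization.AtPrime (maximalIdeal R)) S) :
    Hensel.IsHenselization R S where
  henselian := h.henselian
  universal T _ _ f hf := by
    haveI := hf
    have hu : ∀ y : (maximalIdeal R).primeCompl, IsUnit (f y) := fun y => by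
      have hy : IsUnit (y : R) := by
        have h0 : (y : R) ∉ maximalIdeal R := y.2
        rwa [mem_maximalIdeal, mem_nonunits_iff, not_not] at h0
      exact hy.map f
    let f' : Localization.AtPrime (maximalIdeal R) →+* T := IsLocalization.lift hu
    have hf'f : f'.comp (algebraMap R (Localization.AtPrime (maximalIdeal R))) = f :=
      IsLocalization.lift_comp hu
    have hf'loc : IsLocalHom f' := ⟨fun a ha => by
      obtain ⟨r, s, rfl⟩ := IsLocalization.exists_mk'_eq (maximalIdeal R).primeCompl a
      have h1 : f' (IsLocalization.mk' _ r s) * f s = f r := by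
        rw [← hf'f]
        simp only [RingHom.comp_apply]
        rw [← map_mul, IsLocalization.mk'_spec]
      have h2 : IsUnit (f r) := by
        rw [← h1]
        exact ha.mul (hu s)
      have h3 : IsUnit r := isUnit_of_map_unit f r h2
      have h4 : IsUnit (algebraMap R (Localization.AtPrime (maximalIdeal R)) r) := h3.map _
      have h5 : IsLocalization.mk' (Localization.AtPrime (maximalIdeal R)) r s *
          algebraMap R _ (s : R) = algebraMap R _ r := IsLocalization.mk'_spec _ r s
      exact isUnit_of_mul_isUnit_left (h5 ▸ h4)⟩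
    obtain ⟨g, hg, huniq⟩ := h.universal T f' hf'loc
    refine ⟨g, ?_, fun g' hg' => ?_⟩
    · change g.comp (algebraMap R S) = f
      rw [IsScalarTower.algebraMap_eq R (Localization.AtPrime (maximalIdeal R)) S,
        ← RingHom.comp_assoc, hg, hf'f]
    · apply huniq
      apply IsLocalization.ringHom_ext (maximalIdeal R).primeCompl
      rw [RingHom.comp_assoc, ← IsScalarTower.algebraMap_eq R
        (Localization.AtPrime (maximalIdeal R)) S, hg', hf'f]

/-- The canonical map from a local ring to its localization at the maximal ideal is local. -/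
lemma isLocalHom_algebraMap_localization_maximalIdeal (R : Type u) [CommRing R] [IsLocalRing R] :
    IsLocalHom (algebraMap R (Localization.AtPrime (maximalIdeal R))) := ⟨fun a ha => by
  rw [IsLocalization.AtPrime.isUnit_to_map_iff (Localization.AtPrime (maximalIdeal R))
    (maximalIdeal R)] at ha
  have h0 : a ∉ maximalIdeal R := ha
  rwa [mem_maximalIdeal, mem_nonunits_iff, not_not] at h0⟩

/-- Abstract form: `Ap` a Noetherian local flat `A`-algebra whose maximal ideal lies over `p`. If
there is an impurity above `p`, there is one over a henselization of `Ap` at the closed point. -/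
theorem hasImpurity_henselization_of_noetherian_local
    {A B : Type u} [CommRing A] [CommRing B] [Algebra A B] [Algebra.FiniteType A B]
    (N : Type u) [AddCommGroup N] [Module B N] [Module.Finite B N] (p : Ideal A) [p.IsPrime]
    (Ap : Type u) [CommRing Ap] [Algebra A Ap] [IsLocalRing Ap] [IsNoetherianRing Ap]
    [Module.Flat A Ap] [hm : (maximalIdeal Ap).LiesOver p]
    (h : FlatCA.HasImpurity A B N p (fun _ _ _ _ => True)) :
    FlatCA.HasImpurity A B N p (fun A' _ _ t => ∃ (_ : IsLocalRing A')
        (_ : Algebra Ap A') (_ : IsScalarTower A Ap A') (_ : IsLocalHom (algebraMap Ap A')),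
        Hensel.IsHenselization Ap A' ∧ t = maximalIdeal A') := by
  haveI : Module.Flat A (Localization.AtPrime (maximalIdeal Ap)) :=
    Module.Flat.trans A Ap _
  by_contra hno
  have hup : FlatCA.IsUnivPureAlong A B N p := by
    let f₀ : N →ₗ[B] (Ap ⊗[A] B) ⊗[B] N := TensorProduct.mk B (Ap ⊗[A] B) N 1
    have hf₀ : IsBaseChange (Ap ⊗[A] B) f₀ := TensorProduct.isBaseChange B N (Ap ⊗[A] B)
    refine univPureAlong_of_flat_baseChange N p Ap (Ap ⊗[A] B) ((Ap ⊗[A] B) ⊗[B] N) f₀ hf₀
      (maximalIdeal Ap) ?_
    intro A₂ B₂ N₂ _ _ _ _ _ _ _ _ _ _ _ _ _ _ g t' t _ _ P _ himp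
    apply hno
    have h1 : FlatCA.HasImpurity Ap (Ap ⊗[A] B) ((Ap ⊗[A] B) ⊗[B] N) (maximalIdeal Ap)
        (fun _ _ _ _ => True) :=
      ⟨A₂, B₂, N₂, inferInstance, inferInstance, inferInstance, inferInstance, inferInstance,
        inferInstance, inferInstance, inferInstance, inferInstance, inferInstance, inferInstance,
        inferInstance, inferInstance, inferInstance, g, t', t, inferInstance, inferInstance, P,
        inferInstance, himp, trivial⟩
    have h2 := hasImpurity_quasiFiniteAt_of_noetherian _ _ h1
    have h3 := hasImpurity_etaleNhd_of_quasiFiniteAt _ _ h2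
    have h4 := hasImpurity_henselization_of_etaleNhd _ _ h3
    refine hasImpurity_unrebase N p Ap (Ap ⊗[A] B) ((Ap ⊗[A] B) ⊗[B] N) f₀ hf₀
      (maximalIdeal Ap) _ _ ?_ h4
    rintro A₃ _ _ t₃ ⟨hloc, halg, htow, hlh, hhens, ht⟩
    letI : Algebra A A₃ := ((algebraMap Ap A₃).comp (algebraMap A Ap)).toAlgebra
    haveI := isLocalHom_algebraMap_localization_maximalIdeal Ap
    haveI hlh' : IsLocalHom (algebraMap Ap A₃) := by
      rw [IsScalarTower.algebraMap_eq Ap (Localization.AtPrime (maximalIdeal Ap)) A₃]
      exact RingHom.isLocalHom_comp _ _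
    exact ⟨hloc, inferInstance, IsScalarTower.of_algebraMap_eq (fun _ => rfl), hlh',
      isHenselization_of_localization_maximalIdeal Ap A₃ hhens, ht⟩
  obtain ⟨A₁, B₁, N₁, _, _, _, _, _, _, _, _, _, _, _, _, _, _, f₁, t₁', t₁, _, _, P₁, _, himp₁,
    -⟩ := h
  exact hup A₁ B₁ N₁ f₁ t₁' t₁ P₁ himp₁

/-- If the local ring of `A` at `p` is Noetherian, purity and universal purity along the fibre
over `p` agree. -/
theorem pureAlong_iff_univPureAlong_of_noetherian
    {A B : Type u} [CommRing A] [CommRing B] [Algebra A B] [Algebra.FiniteType A B]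
    (N : Type u) [AddCommGroup N] [Module B N] [Module.Finite B N] (p : Ideal A) [p.IsPrime]
    [IsNoetherianRing (Localization.AtPrime p)] :
    FlatCA.IsPureAlong A B N p ↔ FlatCA.IsUnivPureAlong A B N p := by
  constructor
  · intro hpure A₁ B₁ N₁ _ _ _ _ _ _ _ _ _ _ _ _ _ _ f₁ t₁' t₁ _ _ P₁ _ himp₁
    haveI : (maximalIdeal (Localization.AtPrime p)).LiesOver p :=
      IsLocalization.AtPrime.liesOver_maximalIdeal (Localization.AtPrime p) p
    have h0 : FlatCA.HasImpurity A B N p (fun _ _ _ _ => True) :=
      ⟨A₁, B₁, N₁, inferInstance, inferInstance, inferInstance, inferInstance, inferInstance,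
        inferInstance, inferInstance, inferInstance, inferInstance, inferInstance, inferInstance,
        inferInstance, inferInstance, inferInstance, f₁, t₁', t₁, inferInstance, inferInstance, P₁,
        inferInstance, himp₁, trivial⟩
    have h5 := hasImpurity_henselization_of_noetherian_local N p (Localization.AtPrime p) h0
    obtain ⟨A₄, B₄, N₄, _, _, _, _, _, _, _, _, _, _, _, _, _, _, g₄, t₄', t₄, _, _, P₄, _, himp₄,
      _, het⟩ := hasImpurity_etaleNhd_of_henselization N p h5
    exact hpure A₄ B₄ N₄ g₄ t₄' t₄ P₄ het himp₄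
  · intro huniv A' B' N' _ _ _ _ _ _ _ _ _ _ _ _ _ _ f t' t _ _ P _ _ himp
    exact huniv A' B' N' f t' t P himp

end Groth.Agent.Lib.Helper14.Impurity
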