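import Mathlib
import Groth.Prelude.Def_FlatCA
import Groth.Agent.Lib.Helper14.Impurity.QuasiFinite

/-!
# Purity is preserved by base changes quasi-finite at the point (helper14)
-/

set_option autoImplicit false
set_option linter.style.haveILetI false
universe u

open TensorProduct

namespace Groth.Agent.Lib.Helper14.Impurity

/-- An etale algebra is quasi-finite. -/
theorem quasiFinite_of_etale (S T : Type u) [CommRing S] [CommRing T] [Algebra S T]
    [Algebra.Etale S T] : Algebra.QuasiFinite S T where
  finite_fiber P _ := by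
    haveI : Algebra.FormallyUnramified P.ResidueField (P.Fiber T) := inferInstance
    haveI : Algebra.EssFiniteType P.ResidueField (P.Fiber T) := inferInstance
    exact Algebra.FormallyUnramified.finite_of_free P.ResidueField (P.Fiber T)

/-- Quasi-finiteness at a point composes. -/
theorem quasiFiniteAt_trans (R S T : Type u) [CommRing R] [CommRing S] [CommRing T] [Algebra R S]
    [Algebra S T] [Algebra R T] [IsScalarTower R S T] (p : Ideal S) [p.IsPrime] (q : Ideal T)
    [q.IsPrime] [q.LiesOver p] [Algebra.QuasiFiniteAt R p] [Algebra.QuasiFiniteAt S q] :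
    Algebra.QuasiFiniteAt R q := by
  letI := Localization.AtPrime.algebraOfLiesOver p q
  haveI : Algebra.QuasiFinite (Localization.AtPrime p) (Localization.AtPrime q) :=
    Algebra.QuasiFinite.of_restrictScalars (R := S) (S := Localization.AtPrime p)
      (T := Localization.AtPrime q)
  exact Algebra.QuasiFinite.trans R (Localization.AtPrime p) (Localization.AtPrime q)

/-- An impurity of the base change `N'` above `p'` is an impurity of `N` above `p`
(following helper21's `PureBC`). -/
theorem isImpurity_forward
    {A B : Type u} [CommRing A] [CommRing B] [Algebra A B]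
    (N : Type u) [AddCommGroup N] [Module B N] (p : Ideal A) [p.IsPrime]
    (A' B' N' : Type u) [CommRing A'] [CommRing B'] [Algebra A A'] [Algebra B B'] [Algebra A' B']
    [Algebra A B'] [IsScalarTower A B B'] [IsScalarTower A A' B'] [Algebra.IsPushout A B A' B']
    [AddCommGroup N'] [Module B' N'] [Module B N'] [IsScalarTower B B' N'] (g : N →ₗ[B] N')
    (hg : IsBaseChange B' g) (p' : Ideal A') [p'.IsPrime] [hp' : p'.LiesOver p]
    (A'' B'' N'' : Type u) [CommRing A''] [CommRing B''] [Algebra A' A''] [Algebra B' B'']
    [Algebra A'' B''] [Algebra A' B''] [IsScalarTower A' B' B''] [IsScalarTower A' A'' B'']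
    [AddCommGroup N''] [Module B'' N''] [Module B' N''] [IsScalarTower B' B'' N''] [Module A'' N'']
    [IsScalarTower A'' B'' N''] (f' : N' →ₗ[B'] N'') (t' t : Ideal A'') [t'.IsPrime] [t.IsPrime]
    (P : Ideal B'') [P.IsPrime]
    (himp : FlatCA.IsImpurity A' B' N' p' A'' B'' N'' f' t' t P) :
    ∃ (_ : Algebra A A'') (_ : Algebra B B'') (_ : Algebra A B'') (_ : IsScalarTower A B B'')
      (_ : IsScalarTower A A'' B'') (_ : Module B N'') (_ : IsScalarTower B B'' N'')
      (f : N →ₗ[B] N''), FlatCA.IsImpurity A B N p A'' B'' N'' f t' t P ∧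
        IsScalarTower A A' A'' := by
  obtain ⟨hpush, hbc, hle, hlt, hlP, hass, hlast⟩ := himp
  letI i1 : Algebra A A'' := ((algebraMap A' A'').comp (algebraMap A A')).toAlgebra
  letI i2 : Algebra B B'' := ((algebraMap B' B'').comp (algebraMap B B')).toAlgebra
  letI i3 : Algebra A B'' := ((algebraMap A' B'').comp (algebraMap A A')).toAlgebra
  have s1 : IsScalarTower A A' A'' := IsScalarTower.of_algebraMap_eq (fun x => rfl)
  have s2 : IsScalarTower B B' B'' := IsScalarTower.of_algebraMap_eq (fun x => rfl)
  have s3 : IsScalarTower A A' B'' := IsScalarTower.of_algebraMap_eq (fun x => rfl)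
  have s4 : IsScalarTower A A'' B'' := IsScalarTower.of_algebraMap_eq (fun x => by
    change algebraMap A' B'' (algebraMap A A' x) =
      algebraMap A'' B'' (algebraMap A' A'' (algebraMap A A' x))
    rw [← IsScalarTower.algebraMap_apply A' A'' B''])
  have s5 : IsScalarTower A B' B'' := IsScalarTower.of_algebraMap_eq (fun x => by
    change algebraMap A' B'' (algebraMap A A' x) = algebraMap B' B'' (algebraMap A B' x)
    rw [IsScalarTower.algebraMap_apply A A' B', ← IsScalarTower.algebraMap_apply A' B' B''])
  have s6 : IsScalarTower A B B'' := IsScalarTower.of_algebraMap_eq (fun x => by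
    change algebraMap A' B'' (algebraMap A A' x) =
      algebraMap B' B'' (algebraMap B B' (algebraMap A B x))
    rw [← IsScalarTower.algebraMap_apply A B B', IsScalarTower.algebraMap_apply A A' B',
      ← IsScalarTower.algebraMap_apply A' B' B''])
  letI m1 : Module B N'' := Module.compHom N'' (algebraMap B B'')
  have s7 : IsScalarTower B B'' N'' := ⟨fun b b'' n => by
    change (algebraMap B B'' b * b'') • n = algebraMap B B'' b • (b'' • n)
    rw [mul_smul]⟩
  have s8 : IsScalarTower B B' N'' := ⟨fun b b' n => by
    rw [Algebra.smul_def, mul_smul]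
    change _ = algebraMap B' B'' (algebraMap B B' b) • (b' • n)
    rw [algebraMap_smul B'' (algebraMap B B' b)]⟩
  have hbc' : IsBaseChange B'' ((f'.restrictScalars B).comp g) := IsBaseChange.comp hg hbc
  have hpush' : Algebra.IsPushout A B A'' B'' := by
    have h1 : Algebra.IsPushout A A' B B' := Algebra.IsPushout.symm inferInstance
    have h2 : Algebra.IsPushout A' A'' B' B'' := hpush.symm
    exact ((Algebra.IsPushout.comp_iff A A' B B').mpr h2).symm
  have : t.LiesOver p := Ideal.LiesOver.trans t p' p
  exact ⟨i1, i2, i3, s6, s4, m1, s7, (f'.restrictScalars B).comp g,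
    ⟨hpush', hbc', hle, inferInstance, hlP, hass, hlast⟩, s1⟩

theorem pureAlong_baseChange_of_quasiFiniteAt
    {A B : Type u} [CommRing A] [CommRing B] [Algebra A B] [Algebra.FiniteType A B]
    (N : Type u) [AddCommGroup N] [Module B N] [Module.Finite B N] (p : Ideal A) [p.IsPrime]
    (A' B' N' : Type u) [CommRing A'] [CommRing B'] [Algebra A A'] [Algebra B B'] [Algebra A' B']
    [Algebra A B'] [IsScalarTower A B B'] [IsScalarTower A A' B'] [Algebra.IsPushout A B A' B']
    [AddCommGroup N'] [Module B' N'] [Module B N'] [IsScalarTower B B' N'] (f : N →ₗ[B] N')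
    (hf : IsBaseChange B' f)
    (p' : Ideal A') [p'.IsPrime] [p'.LiesOver p] [Algebra.FiniteType A A']
    [Algebra.QuasiFiniteAt A p']
    (h : FlatCA.IsPureAlong A B N p) : FlatCA.IsPureAlong A' B' N' p' := by
  intro A'' B'' N'' _ _ _ _ _ _ _ _ _ _ _ _ _ _ f' t' t _ _ P _ het himp
  obtain ⟨i1, i2, i3, s6, s4, m1, s7, g, himp₀, s1⟩ :=
    isImpurity_forward N p A' B' N' f hf p' A'' B'' N'' f' t' t P himp
  obtain ⟨hetale, hlo, -⟩ := het
  haveI := hlo
  haveI := hetale
  haveI : Algebra.FiniteType A A'' := Algebra.FiniteType.trans (S := A') inferInstance inferInstance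
  haveI : Algebra.QuasiFinite A' A'' := quasiFinite_of_etale A' A''
  haveI : Algebra.QuasiFiniteAt A' t := inferInstance
  haveI : Algebra.QuasiFiniteAt A t := quasiFiniteAt_trans A A' A'' p' t
  have hH : FlatCA.HasImpurity A B N p (fun A' _ _ t =>
      ∃ _ : t.IsPrime, Algebra.FiniteType A A' ∧ Algebra.QuasiFiniteAt A t) :=
    ⟨A'', B'', N'', inferInstance, inferInstance, i1, i2, inferInstance, i3, s6, s4, inferInstance,
      inferInstance, m1, s7, inferInstance, inferInstance, g, t', t, inferInstance, inferInstance,
      P, inferInstance, himp₀, inferInstance, inferInstance, inferInstance⟩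
  obtain ⟨E, BE, NE, _, _, _, _, _, _, _, _, _, _, _, _, _, _, fE, u', u, hu', hu, PE, hPE, himpE,
    hu2, hetE⟩ := hasImpurity_etaleNhd_of_quasiFiniteAt N p hH
  exact h E BE NE fE u' u PE hetE himpE

end Groth.Agent.Lib.Helper14.Impurity
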